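import Cfsg.Agent.H847.Ux.Gp3

/-!
# S5716, unbounded rank, UG1 (general position), part 4 (helper847)

The main count for the conditions `GPF.disj`, `GPF.nd`.
-/

set_option autoImplicit false
set_option linter.unusedSectionVars false

namespace Cfsg.Agent.H847.Ux

open Module QuadraticMap Cfsg.Agent.LieClassical.OrthCore Cfsg.Agent.H847.Bs
open Cfsg.Agent.H440.Bs (perp mem_perp mem_perp' perp_disjoint dec_perp)
open Cfsg.Agent.H42.Bs (B_zero_left B_zero_right B_sub_left B_sub_right B_neg_left B_neg_right)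

variable {F V : Type*} [Field F] [AddCommGroup V] [Module F V]

theorem inv_mul_apply' (k y : V ≃ₗ[F] V) (v : V) : k ((k⁻¹ * y) v) = y v := k.apply_symm_apply (y v)

/-- the elements `k` for which `u` is in the radical, and the corresponding pair `(u, w)` -/
theorem rad_pair {Φ : Frm F V} {G : Subgroup (V ≃ₗ[F] V)} {N : ℕ} (h : Kl Φ G N) {D E : Submodule F V}
    (hED : E ≤ perp Φ D) {π δ : V →ₗ[F] V}
    (hπ : ∀ v, π v ∈ E) (hπ' : ∀ v, v - π v ∈ perp Φ E) (hδ : ∀ v, δ v ∈ perp Φ D) (hδ' : ∀ v, v - δ v ∈ D)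
    {y : V ≃ₗ[F] V} {k : V ≃ₗ[F] V} (hk : k ∈ fixD G D) {u : V} (hu : u ∈ rad Φ D π (k⁻¹ * y)) :
    SS Φ D y (u, k (π ((k⁻¹ * y) u))) ∧
      ∃ v₀ ∈ perp Φ (D ⊔ E), k v₀ = δ (y u) - k (π ((k⁻¹ * y) u)) := by
  have hi := h.iso hk.1
  obtain ⟨huD, hu'⟩ := hu
  set w₀ := π ((k⁻¹ * y) u) with hw₀
  have hw₀E : w₀ ∈ E := hπ _
  have hw₀D : w₀ ∈ perp Φ D := hED hw₀E
  refine ⟨⟨huD, map_perp h hk hw₀D, fun u₁ hu₁ => ?_, ?_⟩, (k⁻¹ * y) u - w₀ - (y u - δ (y u)), ?_, ?_⟩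
  · show Φ.B (k w₀) (y u₁) = Φ.B u u₁
    rw [← inv_mul_apply' k y u₁, hi.1]
    exact hu' u₁ hu₁
  · show Φ.B (k w₀) (k w₀) = Φ.B u u
    rw [hi.1, ← hu' u huD, hw₀, ← B_proj hπ hπ']
  · have hd : y u - δ (y u) ∈ D := hδ' _
    have hkd : k⁻¹ (y u - δ (y u)) = y u - δ (y u) := by
      have h1 := ((fixD G D).inv_mem hk).2 _ hd
      exact h1
    have e1 : (k⁻¹ * y) u - (y u - δ (y u)) = k⁻¹ (δ (y u)) := by
      have h2 : (k⁻¹ * y) u = k⁻¹ (y u) := rfl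
      rw [h2]
      calc k⁻¹ (y u) - (y u - δ (y u)) = k⁻¹ (y u) - k⁻¹ (y u - δ (y u)) := by rw [hkd]
        _ = k⁻¹ (y u - (y u - δ (y u))) := (map_sub _ _ _).symm
        _ = k⁻¹ (δ (y u)) := by rw [sub_sub_cancel]
    have h1 : (k⁻¹ * y) u - w₀ - (y u - δ (y u)) = k⁻¹ (δ (y u)) - w₀ := by
      rw [← e1]; abel
    refine mem_perp_sup ?_ ?_
    · rw [h1]
      exact (perp Φ D).sub_mem (map_perp h ((fixD G D).inv_mem hk) (hδ _)) hw₀D
    · refine (perp Φ E).sub_mem (hπ' _) ?_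
      intro e he
      exact (mem_perp' Φ).1 (hED he) _ hd
  · have hd : y u - δ (y u) ∈ D := hδ' _
    rw [map_sub, map_sub, hk.2 _ hd, inv_mul_apply']
    abel

/-- **the main count**: `y ∈ G` is fixed, `k` runs over the stabiliser of `D` -/
theorem main_y [Finite F] [Module.Finite F V] {Φ : Frm F V} {G : Subgroup (V ≃ₗ[F] V)} {N t : ℕ} (h : Kl Φ G N)
    (hNq : N ≤ Nat.card F)
    (hcase : (t = Nat.card F ∧ (∀ a, Φ.s a = a) ∧ ∀ v, Φ.B v v = 0) ∨ (t = N ∧ ∃ ρ, Φ.B ρ ρ ≠ 0))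
    {D E : Submodule F V} (hD : Φ.NdOn D) (hD2 : Even (finrank F D)) (hE : Φ.NdOn E) (hED : E ≤ perp Φ D)
    (hE0 : E ≠ ⊥) (hn : 4 * finrank F D + 2 * finrank F E + 10 ≤ finrank F V) {π : V →ₗ[F] V}
    (hπ : ∀ v, π v ∈ E) (hπ' : ∀ v, v - π v ∈ perp Φ E) (y : V ≃ₗ[F] V) :
    Nat.card {k // k ∈ fixD G D ∧ ∃ u, u ∈ rad Φ D π (k⁻¹ * y) ∧ u ≠ 0} * t ≤ 72 * Nat.card (fixD G D) := by
  have : Finite V := Module.finite_of_finite F
  have : Finite (V ≃ₗ[F] V) := finite_lin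
  have hq0 : 0 < Nat.card F := Nat.card_pos
  have hq2 : 2 ≤ Nat.card F := Finite.one_lt_card
  set q := Nat.card F with hq
  -- the projection to `D^⊥`
  obtain ⟨π', hπ'1, hπ'2⟩ := exists_proj h.good.nd hD
  let δ : V →ₗ[F] V := LinearMap.id - π'
  have hδ : ∀ v, δ v ∈ perp Φ D := fun v => hπ'2 v
  have hδ' : ∀ v, v - δ v ∈ D := by
    intro v
    have e : v - δ v = π' v := by
      show v - (v - π' v) = π' v
      abel
    rw [e]
    exact hπ'1 v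
  -- the second factor
  let E' : Submodule F V := perp Φ (D ⊔ E)
  have hDE := ndOn_sup' hD hE hED
  have hE' : Φ.NdOn E' := (Cfsg.Agent.H440.Bs.Dec.ndOn' (dec_perp Φ h.good.nd hDE)) h.good.nd
  have hED' : E' ≤ perp Φ D := perp_sup_le
  have hdj : Disjoint E E' := disj_sup hE
  have hr1 := Cfsg.Agent.H440.Bs.finrank_perp Φ h.good.nd (D ⊔ E)
  have hr2 := finrank_sup' hD hED
  have hr3 := Cfsg.Agent.H440.Bs.finrank_perp Φ h.good.nd D
  have hE0' : E' ≠ ⊥ := by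
    intro h0
    have h1 : finrank F (perp Φ (D ⊔ E)) = 0 := by
      show finrank F E' = 0
      rw [h0, finrank_bot]
    omega
  have hcard : Nat.card E * Nat.card E' = Nat.card (perp Φ D) := by
    rw [card_sub, card_sub, card_sub, ← pow_add]
    congr 1
    show finrank F E + finrank F (perp Φ (D ⊔ E)) = _
    omega
  have hsmall : Nat.card F * (Nat.card D * Nat.card E) ≤ Nat.card (perp Φ D) := by
    rw [card_sub, card_sub, card_sub, ← pow_add, ← pow_succ']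
    exact Nat.pow_le_pow_right hq0 (by omega)
  set W := Nat.card (perp Φ D) with hW
  have hW0 : 0 < W := Nat.card_pos
  set g₀ := Nat.card (fixD G D) with hg₀
  -- pairs `(u, k)`
  let P : V × (V ≃ₗ[F] V) → Prop := fun s => s.2 ∈ fixD G D ∧ s.1 ∈ rad Φ D π (s.2⁻¹ * y) ∧ s.1 ≠ 0
  let P1 : V × (V ≃ₗ[F] V) → Prop := fun s => P s ∧ δ (y s.1) - s.2 (π ((s.2⁻¹ * y) s.1)) ≠ 0
  let P2 : V × (V ≃ₗ[F] V) → Prop := fun s => P s ∧ δ (y s.1) - s.2 (π ((s.2⁻¹ * y) s.1)) = 0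
  have hP : Nat.card {s // P s} ≤ Nat.card {s // P1 s} + Nat.card {s // P2 s} := by
    refine card_or_le _ _ _ fun s hs => ?_
    by_cases h0 : δ (y s.1) - s.2 (π ((s.2⁻¹ * y) s.1)) = 0
    · exact Or.inr ⟨hs, h0⟩
    · exact Or.inl ⟨hs, h0⟩
  have hwne : ∀ s, P s → s.2 (π ((s.2⁻¹ * y) s.1)) ≠ 0 := by
    rintro ⟨u, k⟩ ⟨hk, hu, hu0⟩ h0
    obtain ⟨⟨huD, -, h1, -⟩, -⟩ := rad_pair h hED hπ hπ' hδ hδ' hk hu
    apply hu0
    apply hD u huD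
    intro u₁ hu₁
    have h2 : Φ.B (k (π ((k⁻¹ * y) u))) (y u₁) = Φ.B u u₁ := h1 u₁ hu₁
    have h3 : k (π ((k⁻¹ * y) u)) = 0 := h0
    rw [← h2, h3, B_zero_left]
  have hP1 : Nat.card {s // P1 s} * W ^ 2 ≤ Nat.card {p // SS Φ D y p} * (16 * W * q * g₀) := by
    have h1 := count_le P1 (fun p => SS Φ D y p ∧ p.2 ≠ 0 ∧ δ (y p.1) - p.2 ≠ 0)
      (fun p s => s.1 = p.1 ∧ s.2 ∈ fixD G D ∧ (∃ w₀ ∈ E, s.2 w₀ = p.2) ∧ ∃ v₀ ∈ E', s.2 v₀ = δ (y p.1) - p.2)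
      (W ^ 2) (16 * W * q * g₀)
      (by
        rintro ⟨u, k⟩ ⟨hs, hs'⟩
        obtain ⟨h1, h2⟩ := rad_pair h hED hπ hπ' hδ hδ' hs.1 hs.2.1
        exact ⟨(u, k (π ((k⁻¹ * y) u))), ⟨h1, hwne _ hs, hs'⟩, rfl, hs.1, ⟨_, hπ _, rfl⟩, h2⟩)
      (by
        rintro ⟨u, w⟩ ⟨-, hw0, hv0⟩
        have h2 := cnt2 h hD (by omega) hE hED hE0 hE' hED' hE0' hdj hw0 hv0
        rw [hcard] at h2
        refine (Nat.mul_le_mul_right _ ?_).trans h2
        refine Nat.card_le_card_of_injective (fun s => ⟨s.1.2, s.2.2⟩) ?_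
        rintro ⟨⟨u1, k1⟩, hs1⟩ ⟨⟨u2, k2⟩, hs2⟩ hss
        have e1 : u1 = u := hs1.1
        have e2 : u2 = u := hs2.1
        have e3 : k1 = k2 := congrArg Subtype.val hss
        exact Subtype.ext (Prod.ext (e1.trans e2.symm) e3))
    refine h1.trans (Nat.mul_le_mul_right _ ?_)
    exact card_mono' fun p hp => hp.1
  have hP2 : Nat.card {s // P2 s} * W ≤ Nat.card D * (4 * Nat.card E * g₀) := by
    have h1 := count_le P2 (fun u => u ∈ D ∧ δ (y u) ≠ 0)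
      (fun u s => s.1 = u ∧ s.2 ∈ fixD G D ∧ ∃ w₀ ∈ E, s.2 w₀ = δ (y u)) W (4 * Nat.card E * g₀)
      (by
        rintro ⟨u, k⟩ ⟨hs, hs'⟩
        have h2 : δ (y u) = k (π ((k⁻¹ * y) u)) := sub_eq_zero.1 hs'
        refine ⟨u, ⟨hs.2.1.1, ?_⟩, rfl, hs.1, ⟨_, hπ _, h2.symm⟩⟩
        rw [h2]
        exact hwne _ hs)
      (by
        rintro u ⟨-, hw0⟩
        have h2 := cnt1 h hD (by omega) hE hED hE0 hw0
        refine (Nat.mul_le_mul_right _ ?_).trans h2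
        refine Nat.card_le_card_of_injective (fun s => ⟨s.1.2, s.2.2⟩) ?_
        rintro ⟨⟨u1, k1⟩, hs1⟩ ⟨⟨u2, k2⟩, hs2⟩ hss
        have e1 : u1 = u := hs1.1
        have e2 : u2 = u := hs2.1
        have e3 : k1 = k2 := congrArg Subtype.val hss
        exact Subtype.ext (Prod.ext (e1.trans e2.symm) e3))
    refine h1.trans (Nat.mul_le_mul_right _ ?_)
    exact card_mono' fun u hu => hu.1
  -- the case distinction
  obtain ⟨m, N1, hm, hN1, hS, hmN⟩ : ∃ m N1 : ℕ, (∀ T : V ≃ₗ[F] V, rad Φ D π T ≠ ⊥ →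
      m ≤ Nat.card {u : V // u ∈ rad Φ D π T ∧ u ≠ 0}) ∧ N1 ≤ q ∧
      N1 * Nat.card {p // SS Φ D y p} ≤ 2 * W ∧ q * t ≤ 2 * (m * N1) := by
    rcases hcase with ⟨ht, hs, halt⟩ | ⟨ht, hna⟩
    · refine ⟨q ^ 2 - 1, 1, fun T hT => ?_, by omega, ?_, ?_⟩
      · have h1 := even_rad hs halt hD2 hπ hπ' T
        have h2 := card_le_ne (rad Φ D π T)
        have h3 : finrank F (rad Φ D π T) ≠ 0 := fun h0 => hT (Submodule.finrank_eq_zero.1 h0)
        have h4 : 2 ≤ finrank F (rad Φ D π T) := by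
          obtain ⟨j, hj⟩ := h1
          omega
        rw [card_sub, ← hq] at h2
        have h5 : q ^ 2 ≤ q ^ finrank F (rad Φ D π T) := Nat.pow_le_pow_right hq0 h4
        omega
      · rw [one_mul]
        exact (SS_alt hD y).trans (Nat.le_mul_of_pos_left _ two_pos)
      · rw [ht, mul_one]
        have : 2 * 2 ≤ q * q := Nat.mul_le_mul hq2 hq2
        rw [pow_two]
        omega
    · refine ⟨q - 1, N, fun T hT => ?_, hNq, SS_na h hna hD (by omega) y, ?_⟩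
      · have h2 := card_le_ne (rad Φ D π T)
        have h3 : finrank F (rad Φ D π T) ≠ 0 := fun h0 => hT (Submodule.finrank_eq_zero.1 h0)
        rw [card_sub, ← hq] at h2
        have h5 : q ^ 1 ≤ q ^ finrank F (rad Φ D π T) := Nat.pow_le_pow_right hq0 (by omega)
        rw [pow_one] at h5
        omega
      · rw [ht, ← mul_assoc]
        exact Nat.mul_le_mul_right _ (by omega)
  have hlow : m * Nat.card {k // k ∈ fixD G D ∧ ∃ u, u ∈ rad Φ D π (k⁻¹ * y) ∧ u ≠ 0} ≤ Nat.card {s // P s} := by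
    refine le_count (fun k : V ≃ₗ[F] V => k ∈ fixD G D ∧ ∃ u, u ∈ rad Φ D π (k⁻¹ * y) ∧ u ≠ 0)
      (fun u k => k ∈ fixD G D ∧ u ∈ rad Φ D π (k⁻¹ * y) ∧ u ≠ 0) m ?_
    rintro k ⟨hk, u, hu, hu0⟩
    refine (hm (k⁻¹ * y) ?_).trans ?_
    · intro h0
      rw [h0] at hu
      exact hu0 ((Submodule.mem_bot F).1 hu)
    · exact card_mono' fun u hu => ⟨hk, hu⟩
  set bad := Nat.card {k // k ∈ fixD G D ∧ ∃ u, u ∈ rad Φ D π (k⁻¹ * y) ∧ u ≠ 0}
  have hA : N1 * Nat.card {s // P1 s} ≤ 32 * q * g₀ := by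
    refine Nat.le_of_mul_le_mul_left ?_ (pow_pos hW0 2)
    calc W ^ 2 * (N1 * Nat.card {s // P1 s}) = N1 * (Nat.card {s // P1 s} * W ^ 2) := by ring
      _ ≤ N1 * (Nat.card {p // SS Φ D y p} * (16 * W * q * g₀)) := Nat.mul_le_mul_left _ hP1
      _ = N1 * Nat.card {p // SS Φ D y p} * (16 * W * q * g₀) := by ring
      _ ≤ 2 * W * (16 * W * q * g₀) := Nat.mul_le_mul_right _ hS
      _ = _ := by ring
  have hB : N1 * Nat.card {s // P2 s} ≤ 4 * g₀ := by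
    refine Nat.le_of_mul_le_mul_left ?_ hW0
    calc W * (N1 * Nat.card {s // P2 s}) = N1 * (Nat.card {s // P2 s} * W) := by ring
      _ ≤ N1 * (Nat.card D * (4 * Nat.card E * g₀)) := Nat.mul_le_mul_left _ hP2
      _ = 4 * (N1 * (Nat.card D * Nat.card E)) * g₀ := by ring
      _ ≤ 4 * (q * (Nat.card D * Nat.card E)) * g₀ :=
        Nat.mul_le_mul_right _ (Nat.mul_le_mul_left _ (Nat.mul_le_mul_right _ hN1))
      _ ≤ 4 * W * g₀ := Nat.mul_le_mul_right _ (Nat.mul_le_mul_left _ hsmall)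
      _ = _ := by ring
  have hC : m * N1 * bad ≤ 36 * q * g₀ := by
    calc m * N1 * bad = N1 * (m * bad) := by ring
      _ ≤ N1 * (Nat.card {s // P1 s} + Nat.card {s // P2 s}) := Nat.mul_le_mul_left _ (hlow.trans hP)
      _ = N1 * Nat.card {s // P1 s} + N1 * Nat.card {s // P2 s} := Nat.mul_add _ _ _
      _ ≤ 32 * q * g₀ + 4 * g₀ := Nat.add_le_add hA hB
      _ ≤ 36 * q * g₀ := by nlinarith
  refine Nat.le_of_mul_le_mul_left ?_ hq0
  calc q * (bad * t) = q * t * bad := by ring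
    _ ≤ 2 * (m * N1) * bad := Nat.mul_le_mul_right _ hmN
    _ = 2 * (m * N1 * bad) := by ring
    _ ≤ 2 * (36 * q * g₀) := Nat.mul_le_mul_left _ hC
    _ = _ := by ring

/-- **the conditions `disj`, `nd`** -/
theorem main_g [Finite F] [Module.Finite F V] {Φ : Frm F V} {G : Subgroup (V ≃ₗ[F] V)} {N t : ℕ} (h : Kl Φ G N)
    (hNq : N ≤ Nat.card F)
    (hcase : (t = Nat.card F ∧ (∀ a, Φ.s a = a) ∧ ∀ v, Φ.B v v = 0) ∨ (t = N ∧ ∃ ρ, Φ.B ρ ρ ≠ 0))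
    {D E : Submodule F V} (hD : Φ.NdOn D) (hD2 : Even (finrank F D)) (hE : Φ.NdOn E) (hED : E ≤ perp Φ D)
    (hE0 : E ≠ ⊥) (hn : 4 * finrank F D + 2 * finrank F E + 10 ≤ finrank F V) {π : V →ₗ[F] V}
    (hπ : ∀ v, π v ∈ E) (hπ' : ∀ v, v - π v ∈ perp Φ E) (x : V ≃ₗ[F] V) :
    Nat.card {g // g ∈ G ∧ ∃ u, u ∈ rad Φ D π (g⁻¹ * x * g) ∧ u ≠ 0} * t ≤ 72 * Nat.card G := by
  have : Finite V := Module.finite_of_finite F
  have : Finite (V ≃ₗ[F] V) := finite_lin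
  refine avg G (fixD G D) (fun g hg => hg.1) (fun g => ∃ u, u ∈ rad Φ D π (g⁻¹ * x * g) ∧ u ≠ 0) t 72 ?_
  intro g _
  have h1 := main_y h hNq hcase hD hD2 hE hED hE0 hn hπ hπ' (g⁻¹ * x * g)
  refine (Nat.mul_le_mul_right _ (card_mono' ?_)).trans h1
  rintro k ⟨hk, u, ⟨huD, hu⟩, hu0⟩
  refine ⟨hk, u, ⟨huD, fun u₁ hu₁ => ?_⟩, hu0⟩
  have h2 := hu u₁ hu₁
  have e : ∀ v ∈ D, ((g * k)⁻¹ * x * (g * k)) v = (k⁻¹ * (g⁻¹ * x * g)) v := by
    intro v hv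
    have e1 : (g * k)⁻¹ * x * (g * k) = k⁻¹ * (g⁻¹ * x * g) * k := by group
    rw [e1]
    show (k⁻¹ * (g⁻¹ * x * g)) (k v) = _
    rw [hk.2 v hv]
  rw [e u huD, e u₁ hu₁] at h2
  exact h2

end Cfsg.Agent.H847.Ux
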