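import Cfsg.Agent.H141.Ux.Stmts
import Cfsg.Agent.H847.Ux.Gp4

/-!
# S5716, unbounded rank, UG1: general position (helper847)
-/

set_option autoImplicit false
set_option linter.unusedSectionVars false

namespace Cfsg.Agent.H847.Ux

open Module QuadraticMap Cfsg.Agent.LieClassical.OrthCore Cfsg.Agent.H847.Bs
open Cfsg.Agent.H440.Bs (perp mem_perp mem_perp' perp_disjoint dec_perp)
open Cfsg.Agent.H42.Bs (B_zero_left B_zero_right B_sub_left B_sub_right B_neg_left B_neg_right)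

variable {F V : Type*} [Field F] [AddCommGroup V] [Module F V]

/-- the groups of `H141.Ux.Kl` -/
theorem of_kl [Finite F] [Module.Finite F V] {Φ : Frm F V} {G : Subgroup (V ≃ₗ[F] V)} {N t : ℕ}
    (h : H141.Ux.Kl Φ G N t) (hn : 0 < finrank F V) : Kl Φ G N ∧ N ≤ Nat.card F ∧ t ≤ Nat.card F ∧
    ((t = Nat.card F ∧ (∀ a, Φ.s a = a) ∧ ∀ v, Φ.B v v = 0) ∨ (t = N ∧ ∃ ρ, Φ.B ρ ρ ≠ 0)) := by
  have hq2 : 2 ≤ Nat.card F := Finite.one_lt_card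
  have htop : (⊤ : Submodule F V) ≠ ⊥ := by
    intro h0
    have h1 : finrank F (⊤ : Submodule F V) = 0 := by rw [h0, finrank_bot]
    rw [finrank_top] at h1
    omega
  rcases h with ⟨h, rfl, rfl, rfl⟩ | ⟨r, h, rfl, rfl, rfl⟩ | ⟨Q, h, rfl, rfl, rfl, rfl⟩
  · exact ⟨Or.inl ⟨h, rfl, rfl⟩, by omega, le_rfl, Or.inl ⟨rfl, h.s, h.alt⟩⟩
  · have h1 : t ≤ Nat.card F := by
      rw [h.card]
      exact Nat.le_self_pow (by norm_num) _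
    refine ⟨Or.inr (Or.inl ⟨t, h, rfl, rfl⟩), h1, h1, Or.inr ⟨rfl, ?_⟩⟩
    obtain ⟨ρ, -, hρ⟩ := Cfsg.Agent.H42.Bs.exists_nonisotropic h (W := ⊤)
      (fun x _ hx => h.nd x fun y => hx y trivial) htop
    exact ⟨ρ, hρ⟩
  · refine ⟨Or.inr (Or.inr ⟨Q, h, rfl, rfl, rfl⟩), le_rfl, le_rfl, ?_⟩
    by_cases halt : ∀ v, (frmQ Q).B v v = 0
    · exact Or.inl ⟨rfl, fun a => rfl, halt⟩
    · push Not at halt
      exact Or.inr ⟨rfl, halt⟩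

theorem orth_of_map {Φ : Frm F V} {G : Subgroup (V ≃ₗ[F] V)} {N : ℕ} (h : Kl Φ G N) {g : V ≃ₗ[F] V} (hg : g ∈ G)
    (x : V ≃ₗ[F] V) (a b : V) : Φ.B (x (g a)) (g b) = Φ.B ((g⁻¹ * x * g) a) b := by
  have h1 := (h.iso hg).1 ((g⁻¹ * x * g) a) b
  have h2 : g ((g⁻¹ * x * g) a) = x (g a) := g.apply_symm_apply (x (g a))
  rw [h2] at h1
  exact h1

/-- a condition of the type `a`, `a'`, `e` fails -/
theorem bad_a [Finite F] [Module.Finite F V] {Φ : Frm F V} {G : Subgroup (V ≃ₗ[F] V)} {N : ℕ} (h : Kl Φ G N)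
    (hNq : N ≤ Nat.card F) (hn : 10 ≤ finrank F V) {E : Submodule F V} (hE : 4 ≤ finrank F E) {x : V ≃ₗ[F] V}
    (hx : ¬ ∃ c : F, ∀ v, x v = c • v) {a : V} (ha : a ≠ 0) :
    Nat.card {g // g ∈ G ∧ ∀ b ∈ E, Φ.B ((g⁻¹ * x * g) a) b = 0} * Nat.card F ≤ 10 * Nat.card G := by
  have : Finite V := Module.finite_of_finite F
  have : Finite (V ≃ₗ[F] V) := finite_lin
  have hq0 : 0 < Nat.card F := Nat.card_pos
  have h1 := card_or_le (fun g : V ≃ₗ[F] V => g ∈ G ∧ ∀ b ∈ E, Φ.B ((g⁻¹ * x * g) a) b = 0)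
    (fun g => g ∈ G ∧ ∃ u ∈ perp Φ E, u ∉ Submodule.span F {a} ∧ x (g a) = g u)
    (fun g => g ∈ G ∧ ∃ c : F, x (g a) = c • g a)
    (by
      rintro g ⟨hg, hg'⟩
      have h2 : g ((g⁻¹ * x * g) a) = x (g a) := g.apply_symm_apply (x (g a))
      by_cases h0 : (g⁻¹ * x * g) a ∈ Submodule.span F {a}
      · obtain ⟨c, hc⟩ := Submodule.mem_span_singleton.1 h0
        right
        refine ⟨hg, c, ?_⟩
        rw [← h2, ← hc, map_smul]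
      · left
        exact ⟨hg, _, hg', h0, h2.symm⟩)
  have h2 := cntU h hn x ha (perp Φ E)
  have h3 := cntEig h hNq hn x hx ha
  have hr := Cfsg.Agent.H440.Bs.finrank_perp Φ h.good.nd E
  have h4 : Nat.card (perp Φ E) * Nat.card F ^ 4 ≤ Nat.card V := by
    rw [card_sub, card_V (F := F) (V := V), ← pow_add]
    exact Nat.pow_le_pow_right hq0 (by omega)
  have h5 : Nat.card {g // g ∈ G ∧ ∃ u ∈ perp Φ E, u ∉ Submodule.span F {a} ∧ x (g a) = g u} * Nat.card F ≤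
      4 * Nat.card G := by
    have h6 : 0 < Nat.card (perp Φ E) * Nat.card F ^ 3 := Nat.mul_pos Nat.card_pos (pow_pos hq0 3)
    refine Nat.le_of_mul_le_mul_left ?_ h6
    set M := Nat.card {g // g ∈ G ∧ ∃ u ∈ perp Φ E, u ∉ Submodule.span F {a} ∧ x (g a) = g u}
    calc Nat.card (perp Φ E) * Nat.card F ^ 3 * (M * Nat.card F) = M * (Nat.card (perp Φ E) * Nat.card F ^ 4) := by ring
      _ ≤ M * Nat.card V := Nat.mul_le_mul_left _ h4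
      _ ≤ 4 * N ^ 2 * Nat.card (perp Φ E) * Nat.card F * Nat.card G := h2
      _ = 4 * (N ^ 2 * Nat.card (perp Φ E) * Nat.card F * Nat.card G) := by ring
      _ ≤ 4 * (Nat.card F ^ 2 * Nat.card (perp Φ E) * Nat.card F * Nat.card G) := by
        refine Nat.mul_le_mul_left _ (Nat.mul_le_mul_right _ (Nat.mul_le_mul_right _ (Nat.mul_le_mul_right _ ?_)))
        exact Nat.pow_le_pow_left hNq 2
      _ = _ := by ring
  calc _ ≤ _ := Nat.mul_le_mul_right _ h1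
    _ = _ := Nat.add_mul _ _ _
    _ ≤ 4 * Nat.card G + 6 * Nat.card G := Nat.add_le_add h5 h3
    _ = _ := by ring

/-- `E + x D` is degenerate or not direct -/
theorem rad_of_bad {Φ : Frm F V} {G : Subgroup (V ≃ₗ[F] V)} {N : ℕ} (h : Kl Φ G N) {D E : Submodule F V}
    (hE : Φ.NdOn E) {π : V →ₗ[F] V} (hπ : ∀ v, π v ∈ E) (hπ' : ∀ v, v - π v ∈ perp Φ E) {x g : V ≃ₗ[F] V}
    (hx : x ∈ G) (hg : g ∈ G) {e₀ u : V} (he₀ : e₀ ∈ E) (hu : u ∈ D) (hne : e₀ ≠ 0 ∨ u ≠ 0)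
    (h1 : ∀ e ∈ E, Φ.B (g e₀ + x (g u)) (g e) = 0) (h2 : ∀ u₁ ∈ D, Φ.B (g e₀ + x (g u)) (x (g u₁)) = 0) :
    ∃ u, u ∈ rad Φ D π (g⁻¹ * x * g) ∧ u ≠ 0 := by
  set T := g⁻¹ * x * g with hT
  have hTG : T ∈ G := G.mul_mem (G.mul_mem (G.inv_mem hg) hx) hg
  have hgT : ∀ v, g (T v) = x (g v) := fun v => g.apply_symm_apply (x (g v))
  have hi := h.iso hg
  have h1' : ∀ e ∈ E, Φ.B (e₀ + T u) e = 0 := by
    intro e he
    have := h1 e he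
    rwa [← hgT, ← map_add, hi.1] at this
  have h2' : ∀ u₁ ∈ D, Φ.B (e₀ + T u) (T u₁) = 0 := by
    intro u₁ hu₁
    have := h2 u₁ hu₁
    rwa [← hgT, ← hgT, ← map_add, hi.1] at this
  have h3 : e₀ = - π (T u) := by
    have h4 : e₀ + π (T u) = 0 := by
      apply hE _ (E.add_mem he₀ (hπ _))
      intro e he
      have h5 : Φ.B (T u - π (T u)) e = 0 := hπ' _ e he
      have h6 := h1' e he
      rw [B_sub_left] at h5
      rw [Φ.add_left] at h6 ⊢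
      rw [← sub_eq_zero.1 h5]
      exact h6
    exact eq_neg_of_add_eq_zero_left h4
  refine ⟨u, ⟨hu, fun u₁ hu₁ => ?_⟩, ?_⟩
  · have h4 := h2' u₁ hu₁
    rw [h3, Φ.add_left, B_neg_left, (h.iso hTG).1] at h4
    have h5 : Φ.B u u₁ - Φ.B (π (T u)) (T u₁) = 0 := by rw [← h4]; ring
    exact (sub_eq_zero.1 h5).symm
  · rintro rfl
    rcases hne with h4 | h4
    · apply h4
      rw [h3, map_zero, map_zero, neg_zero]
    · exact h4 rfl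

theorem sub_ne_bot {W : Submodule F V} (h : 0 < finrank F W) : ∃ a ∈ W, a ≠ 0 := by
  have h0 : W ≠ ⊥ := by
    rintro rfl
    rw [finrank_bot] at h
    exact lt_irrefl _ h
  exact Submodule.exists_mem_ne_zero_of_ne_bot h0

/-- **UG1, over any universe, in `ℕ`** -/
theorem gp [Finite F] [Module.Finite F V] {Φ : Frm F V} {G : Subgroup (V ≃ₗ[F] V)} {N t e d : ℕ}
    (hK : H141.Ux.Kl Φ G N t) (he : 10 ≤ e) (hd : 3 ≤ d) (hn : 8 * (e + 2 * d) + 40 ≤ finrank F V)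
    {E₀ A₀ A₀' : Submodule F V} (hc : H141.Ux.Cfg Φ e d E₀ A₀ A₀') {x : V ≃ₗ[F] V} (hxG : x ∈ G)
    (hx : ¬ H141.Ux.Sca x) :
    H141.Ux.cnt G (fun g => ¬ H141.Ux.GPF Φ x (E₀.map (g : V →ₗ[F] V)) (A₀.map (g : V →ₗ[F] V))
      (A₀'.map (g : V →ₗ[F] V))) * t ≤ 102 * Nat.card G := by
  have : Finite V := Module.finite_of_finite F
  have : Finite (V ≃ₗ[F] V) := finite_lin
  obtain ⟨h, hNq, htq, hcase⟩ := of_kl hK (by omega)
  have hfD : finrank F (A₀ ⊔ A₀' : Submodule F V) = 2 * d := by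
    have h1 := Submodule.finrank_sup_add_finrank_inf_eq A₀ A₀'
    rw [hc.disj.eq_bot, finrank_bot, add_zero, hc.dimA, hc.dimA'] at h1
    omega
  have hED : E₀ ≤ perp Φ (A₀ ⊔ A₀') := fun v hv u hu => hc.orth v hv u hu
  obtain ⟨π, hπ, hπ'⟩ := exists_proj h.good.nd hc.nd
  obtain ⟨a, haA, ha0⟩ := sub_ne_bot (W := A₀) (by rw [hc.dimA]; omega)
  obtain ⟨a', haA', ha0'⟩ := sub_ne_bot (W := A₀') (by rw [hc.dimA']; omega)
  obtain ⟨b, hbE, hb0⟩ := sub_ne_bot (W := E₀) (by rw [hc.dim]; omega)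
  have hE0 : E₀ ≠ ⊥ := by
    rintro rfl
    exact hb0 ((Submodule.mem_bot F).1 hbE)
  have hE4 : 4 ≤ finrank F E₀ := by rw [hc.dim]; omega
  have m1 := main_g h hNq hcase hc.ndA (by rw [hfD]; exact even_two_mul d) hc.nd hED hE0
    (by rw [hfD, hc.dim]; omega) hπ hπ' x
  have m2 := bad_a h hNq (by omega) hE4 hx ha0
  have m3 := bad_a h hNq (by omega) hE4 hx ha0'
  have m4 := bad_a h hNq (by omega) hE4 hx hb0
  set B1 := Nat.card {g // g ∈ G ∧ ∃ u, u ∈ rad Φ (A₀ ⊔ A₀') π (g⁻¹ * x * g) ∧ u ≠ 0}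
  set B2 := Nat.card {g // g ∈ G ∧ ∀ b ∈ E₀, Φ.B ((g⁻¹ * x * g) a) b = 0}
  set B3 := Nat.card {g // g ∈ G ∧ ∀ b ∈ E₀, Φ.B ((g⁻¹ * x * g) a') b = 0}
  set B4 := Nat.card {g // g ∈ G ∧ ∀ b_1 ∈ E₀, Φ.B ((g⁻¹ * x * g) b) b_1 = 0}
  have hle : H141.Ux.cnt G (fun g => ¬ H141.Ux.GPF Φ x (E₀.map (g : V →ₗ[F] V)) (A₀.map (g : V →ₗ[F] V))
      (A₀'.map (g : V →ₗ[F] V))) ≤ B1 + (B2 + (B3 + B4)) := by
    refine (card_or_le _ (fun g => g ∈ G ∧ ∃ u, u ∈ rad Φ (A₀ ⊔ A₀') π (g⁻¹ * x * g) ∧ u ≠ 0)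
      (fun g => (g ∈ G ∧ ∀ b ∈ E₀, Φ.B ((g⁻¹ * x * g) a) b = 0) ∨ ((g ∈ G ∧ ∀ b ∈ E₀, Φ.B ((g⁻¹ * x * g) a') b = 0) ∨
        (g ∈ G ∧ ∀ b_1 ∈ E₀, Φ.B ((g⁻¹ * x * g) b) b_1 = 0))) ?_).trans (Nat.add_le_add_left
          ((card_or_le _ (fun g => g ∈ G ∧ ∀ b ∈ E₀, Φ.B ((g⁻¹ * x * g) a) b = 0)
            (fun g => (g ∈ G ∧ ∀ b ∈ E₀, Φ.B ((g⁻¹ * x * g) a') b = 0) ∨
              (g ∈ G ∧ ∀ b_1 ∈ E₀, Φ.B ((g⁻¹ * x * g) b) b_1 = 0)) fun g hg => hg).trans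
            (Nat.add_le_add_left (card_or_le _ _ _ fun g hg => hg) _)) _)
    rintro g ⟨hg, hgp⟩
    by_contra hcon
    push Not at hcon
    obtain ⟨c1, c2, c3, c4⟩ := hcon
    obtain ⟨b2, hb2, hb2'⟩ := c2 hg
    obtain ⟨b3, hb3, hb3'⟩ := c3 hg
    obtain ⟨b4, hb4, hb4'⟩ := c4 hg
    have hmap : ((A₀.map (g : V →ₗ[F] V)) ⊔ (A₀'.map (g : V →ₗ[F] V))).map (x : V →ₗ[F] V) =
        ((A₀ ⊔ A₀').map (g : V →ₗ[F] V)).map (x : V →ₗ[F] V) := by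
      rw [Submodule.map_sup A₀ A₀']
    have hrad : ∀ e₀ ∈ E₀, ∀ u ∈ A₀ ⊔ A₀', (∀ e ∈ E₀, Φ.B (g e₀ + x (g u)) (g e) = 0) →
        (∀ u₁ ∈ A₀ ⊔ A₀', Φ.B (g e₀ + x (g u)) (x (g u₁)) = 0) → e₀ = 0 ∧ u = 0 := by
      intro e₀ he₀ u hu h1 h2
      by_contra h3
      have h4 : e₀ ≠ 0 ∨ u ≠ 0 := by
        by_contra h5
        push Not at h5
        exact h3 h5
      obtain ⟨u', hu', hu0'⟩ := rad_of_bad h hc.nd hπ hπ' hxG hg he₀ hu h4 h1 h2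
      exact hu0' (c1 hg u' hu')
    apply hgp
    refine ⟨?_, ?_, ⟨g a, ⟨a, haA, rfl⟩, g b2, ⟨b2, hb2, rfl⟩, ?_⟩, ⟨g a', ⟨a', haA', rfl⟩, g b3, ⟨b3, hb3, rfl⟩, ?_⟩,
      ⟨g b, ⟨b, hbE, rfl⟩, g b4, ⟨b4, hb4, rfl⟩, ?_⟩⟩
    · rw [hmap, Submodule.disjoint_def]
      rintro v ⟨e₀, he₀, rfl⟩ ⟨_, ⟨u, hu, rfl⟩, hv⟩
      have hv' : x (g u) = g e₀ := hv
      have h1 : g (-e₀) + x (g u) = 0 := by rw [hv', map_neg, neg_add_cancel]
      have h2 := hrad (-e₀) (E₀.neg_mem he₀) u hu (fun e _ => by rw [h1, B_zero_left])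
        (fun u₁ _ => by rw [h1, B_zero_left])
      have h3 : e₀ = 0 := neg_eq_zero.1 h2.1
      show g e₀ = 0
      rw [h3, map_zero]
    · rw [hmap]
      intro v hv hv'
      obtain ⟨_, ⟨e₀, he₀, rfl⟩, _, ⟨_, ⟨u, hu, rfl⟩, rfl⟩, rfl⟩ := Submodule.mem_sup.1 hv
      have h2 := hrad e₀ he₀ u hu (fun e he => hv' _ (Submodule.mem_sup_left ⟨e, he, rfl⟩))
        (fun u₁ hu₁ => hv' _ (Submodule.mem_sup_right ⟨_, ⟨u₁, hu₁, rfl⟩, rfl⟩))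
      show g e₀ + x (g u) = 0
      rw [h2.1, h2.2, map_zero, map_zero, add_zero]
    · rw [orth_of_map h hg]; exact hb2'
    · rw [orth_of_map h hg]; exact hb3'
    · rw [orth_of_map h hg]; exact hb4'
  calc _ ≤ (B1 + (B2 + (B3 + B4))) * t := Nat.mul_le_mul_right _ hle
    _ = B1 * t + B2 * t + B3 * t + B4 * t := by ring
    _ ≤ B1 * t + B2 * Nat.card F + B3 * Nat.card F + B4 * Nat.card F :=
      Nat.add_le_add (Nat.add_le_add (Nat.add_le_add_left (Nat.mul_le_mul_left _ htq) _) (Nat.mul_le_mul_left _ htq))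
        (Nat.mul_le_mul_left _ htq)
    _ ≤ 72 * Nat.card G + 10 * Nat.card G + 10 * Nat.card G + 10 * Nat.card G :=
      Nat.add_le_add (Nat.add_le_add (Nat.add_le_add m1 m2) m3) m4
    _ = _ := by ring

/-- **UG1** -/
theorem ug1 : H141.Ux.UG1 := by
  refine ⟨102, ?_⟩
  intro F V _ _ _ _ _ Φ G N t e d hK _ he hd _ hn E₀ A₀ A₀' hc x hxG hx
  have h1 := gp hK he hd hn hc hxG hx
  exact_mod_cast h1

end Cfsg.Agent.H847.Ux
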