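import Cfsg.Agent.H105.SzO1
import Cfsg.Agent.ClassicalGeometry.WittQuad

/-!
# S5716, unbounded rank: Witt's theorem for families in `E Q` (helper847)

* `exists_hyp_perp` : a hyperbolic pair orthogonal to a family of `k` vectors, `2 k + 3 ≤ dim V`;
* `witt_E` : two linearly independent families with the same Gram matrix and the same values of `Q` are conjugate
  under `E Q` (`2 k + 3 ≤ dim V`, `5 ≤ dim V`).
-/

set_option autoImplicit false
set_option linter.unusedSectionVars false

namespace Cfsg.Agent.H847.Ux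

open Module QuadraticMap Cfsg.Agent.LieClassical.OrthCore Cfsg.Agent.LieClassical.OrthTrans
open Cfsg.Agent.LieClassical.OrthFinite

variable {F V : Type*} [Field F] [AddCommGroup V] [Module F V]

theorem nondegenerate_of_nondeg {Q : QuadraticForm F V} (h : Nondeg Q) : (polarBilin Q).Nondegenerate := by
  refine ⟨fun x hx => h x fun y => hx y, fun x hx => h x fun y => ?_⟩
  rw [polar_comm]
  exact hx y

/-- a vector separating `e` from a family -/
theorem exists_dual_vec [FiniteDimensional F V] {Q : QuadraticForm F V} (hQ : Nondeg Q) {k : ℕ} (u : Fin k → V) {e : V}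
    (he : e ∉ Submodule.span F (Set.range u)) : ∃ x, polar Q e x = 1 ∧ ∀ i, polar Q (u i) x = 0 := by
  by_contra hcon
  push Not at hcon
  apply he
  have h1 : ⨅ i, LinearMap.ker (polarBilin Q (u i)) ≤ LinearMap.ker (polarBilin Q e) := by
    intro x hx
    rw [Submodule.mem_iInf] at hx
    rw [LinearMap.mem_ker]
    by_contra h0
    have h0' : polar Q e x ≠ 0 := h0
    obtain ⟨i, hi⟩ := hcon ((polar Q e x)⁻¹ • x) (by rw [polar_smul_right, smul_eq_mul, inv_mul_cancel₀ h0'])
    apply hi
    have h2 : polar Q (u i) x = 0 := hx i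
    rw [polar_smul_right, h2, smul_zero]
  have h2 := mem_span_of_iInf_ker_le_ker h1
  have h3 : LinearMap.ker (polarBilin Q) = ⊥ := by
    rw [LinearMap.ker_eq_bot']
    intro x hx
    exact hQ x fun y => LinearMap.congr_fun hx y
  have h4 : Submodule.span F (Set.range fun i => polarBilin Q (u i)) =
      (Submodule.span F (Set.range u)).map (polarBilin Q) := by
    rw [Submodule.map_span, ← Set.range_comp]
    rfl
  rw [h4, Submodule.mem_map] at h2
  obtain ⟨z, hz, hze⟩ := h2
  rwa [← LinearMap.ker_eq_bot.1 h3 hze]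

/-- **a hyperbolic pair orthogonal to a family** -/
theorem exists_hyp_perp [Finite F] [FiniteDimensional F V] {Q : QuadraticForm F V} (hQ : Nondeg Q) {k : ℕ}
    (u : Fin k → V) (hn : 2 * k + 3 ≤ finrank F V) :
    ∃ e f, Hyp Q e f ∧ (∀ i, polar Q e (u i) = 0) ∧ ∀ i, polar Q f (u i) = 0 := by
  have h1 : finrank F (Submodule.span F (Set.range u)) ≤ k := by
    have := finrank_range_le_card (R := F) u
    rwa [Fintype.card_fin] at this
  obtain ⟨e, he, he0, heu⟩ := H105.SzO.exists_sing_notMem (Q := Q) u (Submodule.span F (Set.range u)) (by omega)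
  obtain ⟨x, hx, hxu⟩ := exists_dual_vec hQ u he
  refine ⟨e, x + (-Q x) • e, ⟨he0, ?_, ?_⟩, fun i => by rw [polar_comm]; exact heu i, fun i => ?_⟩
  · rw [Q_add, QuadraticMap.map_smul, he0, polar_smul_right, polar_comm Q x e, hx]
    simp
  · rw [polar_add_right, polar_smul_right, hx, polar_self_of_sing he0, smul_zero, add_zero]
  · rw [polar_comm, polar_add_right, polar_smul_right, hxu, heu, smul_zero, add_zero]

/-- **Witt's theorem for families in `E Q`** -/
theorem witt_E [Finite F] [FiniteDimensional F V] {Q : QuadraticForm F V} (hQ : Nondeg Q) {k : ℕ} {u u' : Fin k → V}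
    (hu : LinearIndependent F u) (hu' : LinearIndependent F u') (h1 : ∀ i, Q (u i) = Q (u' i))
    (h2 : ∀ i j, polar Q (u i) (u j) = polar Q (u' i) (u' j)) (hn : 2 * k + 3 ≤ finrank F V)
    (h5 : 5 ≤ finrank F V) : ∃ g ∈ E Q, ∀ i, g (u i) = u' i := by
  have hG : Good Q := good_of_finite hQ h5
  obtain ⟨g, hg, hgu⟩ := Cfsg.Agent.ClassicalGeometry.WittQuad.extend_family Q (nondegenerate_of_nondeg hQ) k u u' hu
    hu' h1 h2
  obtain ⟨e, f, hef, he, hf⟩ := exists_hyp_perp hQ u' hn
  let H : Subgroup (V ≃ₗ[F] V) :=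
    { carrier := {h | h ∈ O Q ∧ ∀ i, h (u' i) = u' i}
      one_mem' := ⟨(O Q).one_mem, fun _ => rfl⟩
      mul_mem' := fun {a b} ha hb => ⟨(O Q).mul_mem ha.1 hb.1, fun i => by
        show a (b (u' i)) = u' i
        rw [hb.2, ha.2]⟩
      inv_mem' := fun {a} ha => ⟨(O Q).inv_mem ha.1, fun i => by
        apply a.injective
        show a (a⁻¹ (u' i)) = a (u' i)
        rw [ha.2]
        exact a.apply_symm_apply _⟩ }
  obtain ⟨h, hh, hE⟩ := H105.SzO.adjust hG (H := H) (fun x hx => hx.1) (fun z hz => by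
    have hq : Q (e + Q z • f) = Q z := by
      rw [Q_add, QuadraticMap.map_smul, polar_smul_right, hef.left, hef.right, hef.pair, smul_zero, smul_eq_mul,
        mul_one]
      ring
    have hq' : Q (e + Q z • f) ≠ 0 := by rw [hq]; exact hz
    refine ⟨refl Q _ hq', ⟨refl_mem_O hq', fun i => ?_⟩, hG.refl_mul_refl_mem hz hq' hq.symm⟩
    rw [refl_apply, polar_add_left, polar_smul_left, he, hf, smul_zero, add_zero, mul_zero, zero_smul, sub_zero])
    (g := g) (fun v => hg v)
  refine ⟨h * g, hE, fun i => ?_⟩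
  show h (g (u i)) = u' i
  rw [hgu, hh.2]

end Cfsg.Agent.H847.Ux
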