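import Cfsg.Agent.H847.Ux.WittE
import Cfsg.Agent.H450.Bs.Herm
import Cfsg.Agent.H42.Bs.Herm
import Cfsg.Agent.H91.Symp

/-!
# S5716, unbounded rank: norm counts and orbits of pairs (helper847)

`Kl Φ G N` : `G = Sp(V)`, `SU(V)`, `Ω(V)` with its form `Φ`; `N` the number of norms of vectors (`1`, `r`, `q`).

* `n1`, `n2` : the number of vectors of a given norm in a subspace, in a coset (upper bounds);
* `witt` : Witt's theorem for families (`n3` for pairs);
* `n4`, `n4'` : lower bounds for the lengths of orbits of vectors and pairs.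
-/

set_option autoImplicit false
set_option linter.unusedSectionVars false

namespace Cfsg.Agent.H847.Ux

open Module QuadraticMap Cfsg.Agent.LieClassical.OrthCore Cfsg.Agent.LieClassical.OrthTrans
open Cfsg.Agent.LieClassical.OrthFinite Cfsg.Agent.H847.Bs

variable {F V : Type*} [Field F] [AddCommGroup V] [Module F V]

/-- `G` is the group `Sp(V)`, `SU(V)` or `Ω(V)` of the form `Φ`; `N` is the number of norms -/
def Kl (Φ : Frm F V) (G : Subgroup (V ≃ₗ[F] V)) (N : ℕ) : Prop :=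
  (IsSp Φ ∧ G = Φ.Iso ∧ N = 1) ∨ (∃ r, IsHerm r Φ ∧ G = Φ.Iso ⊓ slV F V ∧ N = r) ∨
    (∃ Q : QuadraticForm F V, (frmQ Q).Nd ∧ Φ = frmQ Q ∧ G = E Q ∧ N = Nat.card F)

/-! ### double counting along lines -/

/-- double counting along the lines in the direction `ρ` -/
theorem dc [Finite F] [Finite V] (ρ : V) (T S : Set V) (hT : ∀ w ∈ T, ∀ t : F, w + t • ρ ∈ T) [Fintype {w // w ∈ T}] :
    Nat.card F * Nat.card {w // w ∈ T ∧ w ∈ S} = ∑ w : {w // w ∈ T}, Nat.card {t : F // (w : V) + t • ρ ∈ S} := by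
  have e1 : F × {w // w ∈ T ∧ w ∈ S} ≃ {p : V × F // p.1 ∈ T ∧ p.1 + p.2 • ρ ∈ S} :=
    { toFun := fun p => ⟨(p.2.1 + (-p.1) • ρ, p.1), hT _ p.2.2.1 _, by
        show p.2.1 + (-p.1) • ρ + p.1 • ρ ∈ S
        have : p.2.1 + (-p.1) • ρ + p.1 • ρ = p.2.1 := by module
        rw [this]; exact p.2.2.2⟩
      invFun := fun p => (p.1.2, ⟨p.1.1 + p.1.2 • ρ, hT _ p.2.1 _, p.2.2⟩)
      left_inv := fun p => by
        refine Prod.ext rfl (Subtype.ext ?_)
        show p.2.1 + (-p.1) • ρ + p.1 • ρ = p.2.1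
        module
      right_inv := fun p => by
        refine Subtype.ext (Prod.ext ?_ rfl)
        show p.1.1 + p.1.2 • ρ + (-p.1.2) • ρ = p.1.1
        module }
  have e2 : {p : V × F // p.1 ∈ T ∧ p.1 + p.2 • ρ ∈ S} ≃ Σ w : {w // w ∈ T}, {t : F // (w : V) + t • ρ ∈ S} :=
    { toFun := fun p => ⟨⟨p.1.1, p.2.1⟩, ⟨p.1.2, p.2.2⟩⟩
      invFun := fun s => ⟨(s.1.1, s.2.1), s.1.2, s.2.2⟩
      left_inv := fun _ => rfl
      right_inv := fun _ => rfl }
  rw [← Nat.card_prod, Nat.card_congr (e1.trans e2), Nat.card_sigma]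

theorem dc_le [Finite F] [Finite V] (ρ : V) (T S : Set V) (hT : ∀ w ∈ T, ∀ t : F, w + t • ρ ∈ T) (N k : ℕ)
    (h : ∀ w ∈ T, N * Nat.card {t : F // w + t • ρ ∈ S} ≤ k * Nat.card F) :
    N * Nat.card {w // w ∈ T ∧ w ∈ S} ≤ k * Nat.card {w // w ∈ T} := by
  classical
  have := Fintype.ofFinite {w // w ∈ T}
  have h1 := dc (F := F) ρ T S hT
  have h2 : N * ∑ w : {w // w ∈ T}, Nat.card {t : F // (w : V) + t • ρ ∈ S} ≤
      k * Nat.card F * Nat.card {w // w ∈ T} := by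
    rw [Finset.mul_sum]
    refine (Finset.sum_le_card_nsmul _ _ (k * Nat.card F) fun (w : {w // w ∈ T}) _ => h w.1 w.2).trans ?_
    rw [Finset.card_univ, Nat.card_eq_fintype_card (α := {w // w ∈ T}), smul_eq_mul, mul_comm]
  rw [← h1] at h2
  have h3 : 0 < Nat.card F := Nat.card_pos
  refine Nat.le_of_mul_le_mul_left ?_ h3
  calc Nat.card F * (N * Nat.card {w // w ∈ T ∧ w ∈ S}) = N * (Nat.card F * Nat.card {w // w ∈ T ∧ w ∈ S}) := by ring
    _ ≤ _ := h2
    _ = _ := by ring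

theorem dc_ge [Finite F] [Finite V] (ρ : V) (T S : Set V) (hT : ∀ w ∈ T, ∀ t : F, w + t • ρ ∈ T) (N : ℕ)
    (h : ∀ w ∈ T, Nat.card F ≤ N * Nat.card {t : F // w + t • ρ ∈ S}) :
    Nat.card {w // w ∈ T} ≤ N * Nat.card {w // w ∈ T ∧ w ∈ S} := by
  classical
  have := Fintype.ofFinite {w // w ∈ T}
  have h1 := dc (F := F) ρ T S hT
  have h2 : Nat.card F * Nat.card {w // w ∈ T} ≤ N * ∑ w : {w // w ∈ T}, Nat.card {t : F // (w : V) + t • ρ ∈ S} := by
    rw [Finset.mul_sum]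
    refine le_trans ?_ (Finset.card_nsmul_le_sum _ _ (Nat.card F) fun (w : {w // w ∈ T}) _ => h w.1 w.2)
    rw [Finset.card_univ, Nat.card_eq_fintype_card (α := {w // w ∈ T}), smul_eq_mul, mul_comm]
  rw [← h1] at h2
  have h3 : 0 < Nat.card F := Nat.card_pos
  refine Nat.le_of_mul_le_mul_left ?_ h3
  calc Nat.card F * Nat.card {w // w ∈ T} ≤ _ := h2
    _ = _ := by ring

/-! ### roots of polynomials -/

theorem card_roots_le [Finite F] (p : Polynomial F) (hp : p ≠ 0) (S : Set F) (h : ∀ t ∈ S, p.eval t = 0) :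
    Nat.card {t : F // t ∈ S} ≤ p.natDegree := by
  classical
  have h1 : Nat.card {t : F // t ∈ S} ≤ Nat.card {t : F // t ∈ p.roots.toFinset} := by
    refine Nat.card_mono (Set.toFinite _) ?_
    intro t ht
    show t ∈ p.roots.toFinset
    rw [Multiset.mem_toFinset, Polynomial.mem_roots hp]
    exact h t ht
  refine h1.trans ?_
  rw [Nat.card_eq_fintype_card, Fintype.card_coe]
  exact (Multiset.toFinset_card_le _).trans (Polynomial.card_roots' p)

section herm

open Cfsg.Agent.LieClassical.HermBasic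

variable {r : ℕ}

theorem card_trace_zero [Fintype F] (hF : Fintype.card F = r ^ 2) : Nat.card {x : F // x + x ^ r = 0} = r := by
  obtain ⟨c0, hc0, hc⟩ := exists_trace_zero_ne hF
  have hcq : c0 ^ r = -c0 := by linear_combination hc
  refine (Nat.card_congr ?_).trans (card_fixed hF)
  exact
    { toFun := fun x => ⟨c0⁻¹ * x.1, by
        have h1 : x.1 ^ r = -x.1 := by linear_combination x.2
        rw [mul_pow, inv_pow, hcq, h1, inv_neg, neg_mul_neg]⟩
      invFun := fun x => ⟨c0 * x.1, by rw [mul_pow, hcq, x.2]; ring⟩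
      left_inv := fun x => Subtype.ext (mul_inv_cancel_left₀ hc0 _)
      right_inv := fun x => Subtype.ext (inv_mul_cancel_left₀ hc0 _) }

theorem card_trace_eq [Fintype F] (hF : Fintype.card F = r ^ 2) {t : F} (ht : t ^ r = t) :
    Nat.card {x : F // x + x ^ r = t} = r := by
  obtain ⟨y, hy⟩ := exists_trace_eq hF ht
  refine (Nat.card_congr ?_).trans (card_trace_zero hF)
  exact
    { toFun := fun x => ⟨x.1 - y, by rw [sub_pow_q hF]; linear_combination x.2 - hy⟩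
      invFun := fun x => ⟨x.1 + y, by rw [add_pow_q hF]; linear_combination x.2 + hy⟩
      left_inv := fun x => Subtype.ext (sub_add_cancel _ _)
      right_inv := fun x => Subtype.ext (add_sub_cancel_right _ _) }

end herm

/-! ### norms along a line -/

theorem herm_line {Φ : Frm F V} {r : ℕ} (h : IsHerm r Φ) (w ρ : V) (t : F) :
    Φ.B (w + t • ρ) (w + t • ρ) = Φ.B ρ ρ * t ^ (r + 1) + Φ.B w ρ * t ^ r + Φ.B ρ w * t + Φ.B w w := by
  rw [Φ.add_left, Φ.add_right, Φ.add_right, Φ.smul_left, Φ.smul_left, Φ.smul_right, Φ.smul_right, h.s]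
  ring

theorem polar_self_eq {Q : QuadraticForm F V} (x : V) : polar Q x x = 2 * Q x := by
  rw [polar, ← two_smul F x, QuadraticMap.map_smul, smul_eq_mul]
  ring

/-- upper bound for the number of vectors of a given norm on a line with nonsingular direction -/
theorem line_le [Finite F] {Φ : Frm F V} {G : Subgroup (V ≃ₗ[F] V)} {N : ℕ} (h : Kl Φ G N) {ρ : V}
    (hρ : N = 1 ∨ Φ.B ρ ρ ≠ 0 ∨ Φ.q ρ ≠ 0) (a c : F) (w : V) :
    N * Nat.card {t : F // w + t • ρ ∈ {v : V | Φ.B v v = a ∧ Φ.q v = c}} ≤ 2 * Nat.card F := by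
  have := Fintype.ofFinite F
  rcases h with ⟨h, -, rfl⟩ | ⟨r, h, -, rfl⟩ | ⟨Q, h, rfl, -, rfl⟩
  · rw [one_mul]
    exact (Finite.card_subtype_le _).trans (Nat.le_mul_of_pos_left _ two_pos)
  · have hc : Nat.card F = N ^ 2 := h.card
    have hF : Fintype.card F = N ^ 2 := by rw [← Nat.card_eq_fintype_card]; exact hc
    have h2 : 2 ≤ N := Cfsg.Agent.LieClassical.HermBasic.two_le hF
    have hρ' : Φ.B ρ ρ ≠ 0 := by
      rcases hρ with h1 | h1 | h1
      · omega
      · exact h1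
      · exact absurd (h.q ρ) h1
    let p : Polynomial F := Polynomial.C (Φ.B ρ ρ) * Polynomial.X ^ (N + 1) + Polynomial.C (Φ.B w ρ) * Polynomial.X ^ N +
      Polynomial.C (Φ.B ρ w) * Polynomial.X + Polynomial.C (Φ.B w w - a)
    have hp : p ≠ 0 := by
      intro h0
      have : p.coeff (N + 1) = 0 := by rw [h0, Polynomial.coeff_zero]
      apply hρ'
      simpa [p, Polynomial.coeff_X, Polynomial.coeff_C, show (1 : ℕ) ≠ N + 1 by omega, show N ≠ 0 by omega,
        Polynomial.coeff_X_pow] using this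
    have hdeg : p.natDegree ≤ N + 1 := by
      refine Polynomial.natDegree_add_le_of_degree_le (Polynomial.natDegree_add_le_of_degree_le
        (Polynomial.natDegree_add_le_of_degree_le (Polynomial.natDegree_C_mul_X_pow_le _ _)
          ((Polynomial.natDegree_C_mul_X_pow_le _ _).trans (by omega)))
        ((Polynomial.natDegree_C_mul_le _ _).trans (Polynomial.natDegree_X_le.trans (by omega)))) (by rw [Polynomial.natDegree_C]; omega)
    have h3 := card_roots_le p hp {t : F | w + t • ρ ∈ {v : V | Φ.B v v = a ∧ Φ.q v = c}} (by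
      rintro t ⟨ht, -⟩
      rw [herm_line h] at ht
      simp only [p, Polynomial.eval_add, Polynomial.eval_mul, Polynomial.eval_C, Polynomial.eval_pow,
        Polynomial.eval_X]
      linear_combination ht)
    have h4 : N * Nat.card {t : F // w + t • ρ ∈ {v : V | Φ.B v v = a ∧ Φ.q v = c}} ≤ N * (N + 1) :=
      Nat.mul_le_mul_left _ (h3.trans hdeg)
    refine h4.trans ?_
    rw [hc]
    nlinarith
  · have hρ' : Q ρ ≠ 0 := by
      rcases hρ with h1 | h1 | h1
      · exact absurd h1 (ne_of_gt Finite.one_lt_card)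
      · intro h0
        apply h1
        show polar Q ρ ρ = 0
        rw [polar_self_eq, h0, mul_zero]
      · exact h1
    let p : Polynomial F := Polynomial.C (Q ρ) * Polynomial.X ^ 2 + Polynomial.C (polar Q w ρ) * Polynomial.X +
      Polynomial.C (Q w - c)
    have hp : p ≠ 0 := by
      intro h0
      have : p.coeff 2 = 0 := by rw [h0, Polynomial.coeff_zero]
      apply hρ'
      simpa [p, Polynomial.coeff_X, Polynomial.coeff_C, Polynomial.coeff_X_pow] using this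
    have hdeg : p.natDegree ≤ 2 := by
      refine Polynomial.natDegree_add_le_of_degree_le
        (Polynomial.natDegree_add_le_of_degree_le (Polynomial.natDegree_C_mul_X_pow_le _ _)
          ((Polynomial.natDegree_C_mul_le _ _).trans (Polynomial.natDegree_X_le.trans (by omega)))) (by rw [Polynomial.natDegree_C]; omega)
    have h3 := card_roots_le p hp {t : F | w + t • ρ ∈ {v : V | (frmQ Q).B v v = a ∧ (frmQ Q).q v = c}} (by
      rintro t ⟨-, ht⟩
      have ht' : Q (w + t • ρ) = c := ht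
      rw [Q_add, QuadraticMap.map_smul, polar_smul_right, smul_eq_mul, smul_eq_mul] at ht'
      simp only [p, Polynomial.eval_add, Polynomial.eval_mul, Polynomial.eval_C, Polynomial.eval_pow,
        Polynomial.eval_X]
      linear_combination ht')
    rw [mul_comm]
    exact Nat.mul_le_mul_right _ (h3.trans hdeg)

/-- lower bound for the number of vectors of a given norm on a line with singular direction -/
theorem line_ge [Finite F] {Φ : Frm F V} {G : Subgroup (V ≃ₗ[F] V)} {N : ℕ} (h : Kl Φ G N) {e : V}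
    (he : Φ.B e e = 0) (he' : Φ.q e = 0) (v w : V) (hw : Φ.B w e ≠ 0) :
    Nat.card F ≤ N * Nat.card {t : F // w + t • e ∈ {x : V | Φ.B x x = Φ.B v v ∧ Φ.q x = Φ.q v}} := by
  have := Fintype.ofFinite F
  rcases h with ⟨h, -, rfl⟩ | ⟨r, h, -, rfl⟩ | ⟨Q, h, rfl, -, rfl⟩
  · rw [one_mul]
    refine le_of_eq (Nat.card_congr (Equiv.subtypeUnivEquiv fun t => ?_)).symm
    exact ⟨by rw [h.alt, h.alt], by rw [h.q, h.q]⟩
  · have hc : Nat.card F = N ^ 2 := h.card
    have hF : Fintype.card F = N ^ 2 := by rw [← Nat.card_eq_fintype_card]; exact hc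
    have hβ : Φ.B e w ≠ 0 := fun h0 => hw (Φ.refl _ _ h0)
    have h1 : Nat.card {x : F // x + x ^ N = Φ.B v v - Φ.B w w} = N := by
      refine card_trace_eq hF ?_
      rw [Cfsg.Agent.LieClassical.HermBasic.sub_pow_q hF, ← h.symm, ← h.symm]
    have h2 : Nat.card {x : F // x + x ^ N = Φ.B v v - Φ.B w w} =
        Nat.card {t : F // w + t • e ∈ {x : V | Φ.B x x = Φ.B v v ∧ Φ.q x = Φ.q v}} := by
      refine Nat.card_congr
        { toFun := fun x => ⟨(Φ.B e w)⁻¹ * x.1, ?_, by rw [h.q, h.q]⟩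
          invFun := fun t => ⟨Φ.B e w * t.1, ?_⟩
          left_inv := fun x => Subtype.ext (mul_inv_cancel_left₀ hβ _)
          right_inv := fun x => Subtype.ext (inv_mul_cancel_left₀ hβ _) }
      · have hx := x.2
        rw [herm_line h, he, h.symm e w, ← mul_pow, mul_inv_cancel_left₀ hβ]
        linear_combination hx
      · have ht := t.2.1
        rw [herm_line h, he, h.symm e w] at ht
        rw [mul_pow]
        linear_combination ht
    rw [← h2, h1, hc, pow_two]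
  · have hβ : polar Q w e ≠ 0 := hw
    have he0 : Q e = 0 := he'
    have h1 : 1 ≤ Nat.card {t : F // w + t • e ∈ {x : V | (frmQ Q).B x x = (frmQ Q).B v v ∧
        (frmQ Q).q x = (frmQ Q).q v}} := by
      rw [Nat.one_le_iff_ne_zero, Nat.card_ne_zero]
      refine ⟨⟨(polar Q w e)⁻¹ * (Q v - Q w), ?_⟩, inferInstance⟩
      have h2 : Q (w + ((polar Q w e)⁻¹ * (Q v - Q w)) • e) = Q v := by
        rw [Q_add, QuadraticMap.map_smul, he0, polar_smul_right, smul_zero, smul_eq_mul, mul_right_comm,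
          inv_mul_cancel₀ hβ]
        ring
      refine ⟨?_, h2⟩
      show polar Q _ _ = polar Q v v
      rw [polar_self_eq, polar_self_eq, h2]
    exact Nat.le_mul_of_pos_right _ h1

/-! ### upper bounds -/

/-- a nondegenerate nonzero subspace contains a nonsingular vector -/
theorem exists_nonsing [Finite F] {Φ : Frm F V} {G : Subgroup (V ≃ₗ[F] V)} {N : ℕ} (h : Kl Φ G N)
    {D : Submodule F V} (hD : Φ.NdOn D) (hD0 : D ≠ ⊥) : ∃ ρ ∈ D, N = 1 ∨ Φ.B ρ ρ ≠ 0 ∨ Φ.q ρ ≠ 0 := by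
  obtain ⟨x, hx, hx0⟩ := Submodule.exists_mem_ne_zero_of_ne_bot hD0
  rcases h with ⟨h, -, rfl⟩ | ⟨r, h, -, rfl⟩ | ⟨Q, h, rfl, -, rfl⟩
  · exact ⟨x, hx, Or.inl rfl⟩
  · obtain ⟨ρ, hρD, hρ⟩ := Cfsg.Agent.H42.Bs.exists_nonisotropic h hD hD0
    exact ⟨ρ, hρD, Or.inr (Or.inl hρ)⟩
  · have h1 : ∃ y ∈ D, polar Q x y ≠ 0 := by
      by_contra hcon
      push Not at hcon
      exact hx0 (hD x hx hcon)
    obtain ⟨y, hy, hxy⟩ := h1
    by_cases h2 : Q x = 0
    · by_cases h3 : Q y = 0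
      · refine ⟨x + y, D.add_mem hx hy, Or.inr (Or.inr ?_)⟩
        show Q (x + y) ≠ 0
        rw [Q_add, h2, h3, zero_add, zero_add]
        exact hxy
      · exact ⟨y, hy, Or.inr (Or.inr h3)⟩
    · exact ⟨x, hx, Or.inr (Or.inr h2)⟩

/-- **(N1)** the number of vectors of a given norm in a nondegenerate subspace -/
theorem n1 [Finite F] [Finite V] {Φ : Frm F V} {G : Subgroup (V ≃ₗ[F] V)} {N : ℕ} (h : Kl Φ G N)
    (D : Submodule F V) (hD : Φ.NdOn D) (hD0 : D ≠ ⊥) (a c : F) :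
    N * Nat.card {w : V // w ∈ D ∧ Φ.B w w = a ∧ Φ.q w = c} ≤ 2 * Nat.card D := by
  obtain ⟨ρ, hρD, hρ⟩ := exists_nonsing h hD hD0
  exact dc_le (F := F) ρ (D : Set V) {v : V | Φ.B v v = a ∧ Φ.q v = c}
    (fun w hw t => D.add_mem hw (D.smul_mem _ hρD)) N 2 fun w _ => line_le h hρ a c w

/-- (N1) in a coset of a subspace containing a nonsingular vector -/
theorem n2q [Finite F] [Finite V] {Φ : Frm F V} {G : Subgroup (V ≃ₗ[F] V)} {N : ℕ} (h : Kl Φ G N)
    (R : Submodule F V) {ρ : V} (hρR : ρ ∈ R) (hρ : N = 1 ∨ Φ.B ρ ρ ≠ 0 ∨ Φ.q ρ ≠ 0) (w₀ : V) (a c : F) :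
    N * Nat.card {w : V // w - w₀ ∈ R ∧ Φ.B w w = a ∧ Φ.q w = c} ≤ 2 * Nat.card R := by
  have h1 := dc_le (F := F) ρ {w : V | w - w₀ ∈ R} {v : V | Φ.B v v = a ∧ Φ.q v = c}
    (fun w hw t => by
      show w + t • ρ - w₀ ∈ R
      rw [add_sub_right_comm]
      exact R.add_mem hw (R.smul_mem _ hρR)) N 2 fun w _ => line_le h hρ a c w
  have h2 : Nat.card {w : V // w ∈ {w : V | w - w₀ ∈ R}} = Nat.card R := by
    refine Nat.card_congr ((Equiv.subRight w₀).subtypeEquiv fun w => ?_)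
    rfl
  rw [h2] at h1
  exact h1

/-- `B v v` determines `q v` if some vector is not isotropic -/
theorem q_of_B [Finite F] {Φ : Frm F V} {G : Subgroup (V ≃ₗ[F] V)} {N : ℕ} (h : Kl Φ G N) {ρ : V}
    (hρ : Φ.B ρ ρ ≠ 0) (a : F) : ∃ c, ∀ w, Φ.B w w = a → Φ.q w = c := by
  rcases h with ⟨h, -, rfl⟩ | ⟨r, h, -, rfl⟩ | ⟨Q, h, rfl, -, rfl⟩
  · exact absurd (h.alt ρ) hρ
  · exact ⟨0, fun w _ => h.q w⟩
  · have h2 : (2 : F) ≠ 0 := by
      intro h0
      apply hρ
      show polar Q ρ ρ = 0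
      rw [polar_self_eq, h0, zero_mul]
    refine ⟨a / 2, fun w hw => ?_⟩
    have hw' : polar Q w w = a := hw
    rw [polar_self_eq] at hw'
    show Q w = a / 2
    rw [← hw', mul_div_cancel_left₀ _ h2]

/-- **(N2)** -/
theorem n2 [Finite F] [Finite V] {Φ : Frm F V} {G : Subgroup (V ≃ₗ[F] V)} {N : ℕ} (h : Kl Φ G N)
    (R : Submodule F V) (hR : ∃ ρ ∈ R, Φ.B ρ ρ ≠ 0) (w₀ : V) (a : F) :
    N * Nat.card {w : V // w - w₀ ∈ R ∧ Φ.B w w = a} ≤ 2 * Nat.card R := by
  obtain ⟨ρ, hρR, hρ⟩ := hR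
  obtain ⟨c, hc⟩ := q_of_B h hρ a
  refine le_trans (Nat.mul_le_mul_left _ ?_) (n2q h R hρR (Or.inr (Or.inl hρ)) w₀ a c)
  exact Nat.card_mono (Set.toFinite _) fun w hw => ⟨hw.1, hw.2, hc w hw.2⟩

/-! ### Witt's theorem -/

/-- **Witt's theorem for families** -/
theorem witt [Finite F] [Finite V] {Φ : Frm F V} {G : Subgroup (V ≃ₗ[F] V)} {N : ℕ} (h : Kl Φ G N) {k : ℕ}
    (hn : 2 * k + 3 ≤ finrank F V) (h5 : 5 ≤ finrank F V) {u u' : Fin k → V} (hu : LinearIndependent F u)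
    (hu' : LinearIndependent F u') (h1 : ∀ i j, Φ.B (u i) (u j) = Φ.B (u' i) (u' j))
    (h2 : ∀ i, Φ.q (u i) = Φ.q (u' i)) : ∃ g ∈ G, ∀ i, g (u i) = u' i := by
  have := Fintype.ofFinite F
  have : FiniteDimensional F V := Module.finite_of_finrank_pos (by omega)
  rcases h with ⟨h, rfl, rfl⟩ | ⟨r, h, rfl, rfl⟩ | ⟨Q, h, rfl, rfl, rfl⟩
  · let B : LinearMap.BilinForm F V := LinearMap.mk₂ F Φ.B Φ.add_left Φ.smul_left Φ.add_right
      (fun c x y => by rw [Φ.smul_right, h.s, smul_eq_mul])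
    have hB : Cfsg.Agent.H91.Symp.SForm B :=
      { nd := ⟨fun x hx => h.nd x hx, fun x hx => h.nd x fun y => Φ.refl _ _ (hx y)⟩
        alt := h.alt }
    obtain ⟨g, hg, hgu⟩ := Cfsg.Agent.H91.Symp.witt_family hB hu hu' h1
    exact ⟨g, ⟨fun x y => hg x y, fun x => by rw [h.q, h.q]⟩, hgu⟩
  · have hF : Fintype.card F = N ^ 2 := by rw [← Nat.card_eq_fintype_card]; exact h.card
    obtain ⟨g, hg, hd, hgu⟩ := Cfsg.Agent.H450.UF.witt_su_small (Cfsg.Agent.H450.Bs.hform_toB hF h) hu hu'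
      (fun i j => h1 j i) (by rw [Fintype.card_fin]; omega)
    exact ⟨g, ⟨(Cfsg.Agent.H450.Bs.iso_iff hF h).2 hg, hd⟩, hgu⟩
  · exact witt_E h hu hu' h2 h1 hn h5

/-- **(N3)** Witt's theorem for pairs -/
theorem n3 [Finite F] [Finite V] {Φ : Frm F V} {G : Subgroup (V ≃ₗ[F] V)} {N : ℕ} (h : Kl Φ G N)
    (hn : 7 ≤ finrank F V) {w w' v v' : V} (hw : LinearIndependent F ![w, w']) (hv : LinearIndependent F ![v, v'])
    (h11 : Φ.B w w = Φ.B v v) (h12 : Φ.B w w' = Φ.B v v') (h21 : Φ.B w' w = Φ.B v' v) (h22 : Φ.B w' w' = Φ.B v' v')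
    (hq : Φ.q w = Φ.q v) (hq' : Φ.q w' = Φ.q v') : ∃ g ∈ G, g w = v ∧ g w' = v' := by
  obtain ⟨g, hg, hgu⟩ := witt h (k := 2) (by omega) (by omega) hw hv
    (by
      intro i j
      fin_cases i <;> fin_cases j
      · exact h11
      · exact h12
      · exact h21
      · exact h22)
    (by
      intro i
      fin_cases i
      · exact hq
      · exact hq')
  exact ⟨g, hg, hgu 0, hgu 1⟩

/-! ### orbits -/

theorem Kl.good [Finite F] {Φ : Frm F V} {G : Subgroup (V ≃ₗ[F] V)} {N : ℕ} (h : Kl Φ G N) :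
    Cfsg.Agent.H42.Bs.Good Φ := by
  rcases h with ⟨h, -, -⟩ | ⟨r, h, -, -⟩ | ⟨Q, h, rfl, -, -⟩
  · exact Cfsg.Agent.H42.Bs.good_of_sp h
  · exact Cfsg.Agent.H42.Bs.good_of_herm h
  · exact Cfsg.Agent.H42.Bs.good_of_quad h

/-- `B w v` is determined by `B v w` -/
theorem Kl.swap [Finite F] {Φ : Frm F V} {G : Subgroup (V ≃ₗ[F] V)} {N : ℕ} (h : Kl Φ G N) {x y x' y' : V}
    (hxy : Φ.B x y = Φ.B x' y') : Φ.B y x = Φ.B y' x' := by
  obtain ⟨ε, -, hε⟩ := h.good.eps
  rw [hε x y, hε x' y', hxy]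

/-- the functional `B · y` -/
def lf (Φ : Frm F V) (y : V) : V →ₗ[F] F where
  toFun x := Φ.B x y
  map_add' a b := Φ.add_left a b y
  map_smul' c a := Φ.smul_left c a y

theorem lf_apply (Φ : Frm F V) (x y : V) : lf Φ y x = Φ.B x y := rfl

/-- a vector separating `e` from a family -/
theorem sep [Finite F] {Φ : Frm F V} {G : Subgroup (V ≃ₗ[F] V)} {N : ℕ} (h : Kl Φ G N) {k : ℕ} (u : Fin k → V) {e : V}
    (he : e ∉ Submodule.span F (Set.range u)) : ∃ x, Φ.B x e = 1 ∧ ∀ i, Φ.B x (u i) = 0 := by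
  by_contra hcon
  push Not at hcon
  apply he
  have h1 : ⨅ i, LinearMap.ker (lf Φ (u i)) ≤ LinearMap.ker (lf Φ e) := by
    intro x hx
    rw [Submodule.mem_iInf] at hx
    rw [LinearMap.mem_ker, lf_apply]
    by_contra h0
    obtain ⟨i, hi⟩ := hcon ((Φ.B x e)⁻¹ • x) (by rw [Φ.smul_left, inv_mul_cancel₀ h0])
    apply hi
    have h2 : Φ.B x (u i) = 0 := hx i
    rw [Φ.smul_left, h2, mul_zero]
  have h2 := mem_span_of_iInf_ker_le_ker h1
  rw [Submodule.mem_span_range_iff_exists_fun] at h2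
  obtain ⟨c, hc⟩ := h2
  have hs : ∀ (x : V), Φ.B x e = Φ.B x (∑ i, Φ.s (c i) • u i) := by
    intro x
    have h3 : lf Φ e x = ∑ i, c i * Φ.B x (u i) := by
      rw [← hc, LinearMap.sum_apply]
      rfl
    rw [lf_apply] at h3
    rw [h3, Cfsg.Agent.H42.Bs.Good.B_sum_right]
    refine Finset.sum_congr rfl fun i _ => ?_
    rw [Φ.smul_right, h.good.s_s]
  rw [h.good.ext_right hs]
  exact Submodule.sum_mem _ fun i _ => Submodule.smul_mem _ _ (Submodule.subset_span ⟨i, rfl⟩)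

/-- **a singular vector orthogonal to a family and outside of its span** -/
theorem exists_iso [Finite F] [Finite V] {Φ : Frm F V} {G : Subgroup (V ≃ₗ[F] V)} {N : ℕ} (h : Kl Φ G N) {k : ℕ}
    (hn : 2 * k + 3 ≤ finrank F V) (u : Fin k → V) : ∃ e, e ∉ Submodule.span F (Set.range u) ∧ Φ.B e e = 0 ∧
      Φ.q e = 0 ∧ ∀ i, Φ.B e (u i) = 0 := by
  have := Fintype.ofFinite F
  have : FiniteDimensional F V := Module.finite_of_finrank_pos (by omega)
  have hk : finrank F (Submodule.span F (Set.range u)) ≤ k := by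
    have := finrank_range_le_card (R := F) u
    rwa [Fintype.card_fin] at this
  rcases h with ⟨h, rfl, rfl⟩ | ⟨r, h, rfl, rfl⟩ | ⟨Q, h, rfl, rfl, rfl⟩
  · let f : V →ₗ[F] (Fin k → F) := LinearMap.pi fun i => lf Φ (u i)
    have h1 := LinearMap.finrank_range_add_finrank_ker f
    have h2 : Module.finrank F (LinearMap.range f) ≤ k := by
      refine le_trans (Submodule.finrank_le _) ?_
      rw [Module.finrank_fin_fun]
    have h3 : ¬ LinearMap.ker f ≤ Submodule.span F (Set.range u) := by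
      intro h4
      have := Submodule.finrank_mono h4
      omega
    obtain ⟨e, he, heu⟩ := Set.not_subset.1 h3
    exact ⟨e, heu, h.alt e, h.q e, fun i => congrFun (LinearMap.mem_ker.1 he) i⟩
  · have hF : Fintype.card F = N ^ 2 := by rw [← Nat.card_eq_fintype_card]; exact h.card
    obtain ⟨e, he, heu, hee⟩ := Cfsg.Agent.H450.UF.exists_iso_perp (Cfsg.Agent.H450.Bs.hform_toB hF h)
      (C := Submodule.span F (Set.range u)) (by omega)
    exact ⟨e, heu, hee, h.q e, fun i => Φ.refl _ _ (he _ (Submodule.subset_span ⟨i, rfl⟩))⟩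
  · obtain ⟨e, he, he0, heu⟩ := H105.SzO.exists_sing_notMem (Q := Q) u (Submodule.span F (Set.range u)) (by omega)
    refine ⟨e, he, ?_, he0, fun i => ?_⟩
    · show polar Q e e = 0
      rw [polar_self_eq, he0, mul_zero]
    · show polar Q e (u i) = 0
      rw [polar_comm]
      exact heu i

theorem half [Finite V] (g : V →ₗ[F] F) {y : V} (hy : g y ≠ 0) : Nat.card V ≤ 2 * Nat.card {w : V // g w ≠ 0} := by
  classical
  have h1 : Nat.card {w : V // g w = 0} ≤ Nat.card {w : V // g w ≠ 0} := by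
    refine Nat.card_le_card_of_injective (fun w => ⟨w.1 + y, by rw [map_add, w.2, zero_add]; exact hy⟩) ?_
    intro a b hab
    exact Subtype.ext (add_right_cancel (congrArg Subtype.val hab))
  have h2 : Nat.card V = Nat.card {w : V // g w = 0} + Nat.card {w : V // g w ≠ 0} := by
    rw [← Nat.card_sum]
    exact (Nat.card_congr (Equiv.sumCompl fun w => g w = 0)).symm
  omega

theorem half2 [Finite F] [Finite V] (f g : V →ₗ[F] F) {x y : V} (hx : f x ≠ 0) (hy : g y = 1) (hfy : f y = 0)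
    (b : F) : Nat.card V ≤ 2 * Nat.card F * Nat.card {w : V // f w = b ∧ g w ≠ 0} := by
  let z : V := (f x)⁻¹ • (x - g x • y)
  have hz1 : f z = 1 := by
    show f ((f x)⁻¹ • (x - g x • y)) = 1
    rw [map_smul, map_sub, map_smul, hfy, smul_zero, sub_zero, smul_eq_mul, inv_mul_cancel₀ hx]
  have hz2 : g z = 0 := by
    show g ((f x)⁻¹ • (x - g x • y)) = 0
    rw [map_smul, map_sub, map_smul, hy, smul_eq_mul, smul_eq_mul, mul_one, sub_self, mul_zero]
  have h1 := half g (y := y) (by rw [hy]; exact one_ne_zero)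
  have e : F × {w : V // f w = b ∧ g w ≠ 0} ≃ {w : V // g w ≠ 0} :=
    { toFun := fun p => ⟨p.2.1 + (p.1 - b) • z, by
        rw [map_add, map_smul, hz2, smul_zero, add_zero]; exact p.2.2.2⟩
      invFun := fun w => (f w.1, ⟨w.1 + (b - f w.1) • z, by
        rw [map_add, map_smul, hz1, smul_eq_mul, mul_one]; ring, by
        rw [map_add, map_smul, hz2, smul_zero, add_zero]; exact w.2⟩)
      left_inv := fun p => by
        have h2 : f (p.2.1 + (p.1 - b) • z) = p.1 := by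
          rw [map_add, map_smul, hz1, p.2.2.1, smul_eq_mul, mul_one]; ring
        refine Prod.ext h2 (Subtype.ext ?_)
        show p.2.1 + (p.1 - b) • z + (b - f (p.2.1 + (p.1 - b) • z)) • z = p.2.1
        rw [h2]
        module
      right_inv := fun w => by
        refine Subtype.ext ?_
        show w.1 + (b - f w.1) • z + (f w.1 - b) • z = w.1
        module }
  have h3 := Nat.card_congr e
  rw [Nat.card_prod] at h3
  rw [mul_assoc, h3]
  exact h1

/-- many vectors of a given norm not orthogonal to `e` -/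
theorem many1 [Finite F] [Finite V] {Φ : Frm F V} {G : Subgroup (V ≃ₗ[F] V)} {N : ℕ} (h : Kl Φ G N) {e : V} (he0 : e ≠ 0)
    (he : Φ.B e e = 0) (he' : Φ.q e = 0) (w : V) :
    Nat.card V ≤ 2 * N * Nat.card {x : V // Φ.B x e ≠ 0 ∧ Φ.B x x = Φ.B w w ∧ Φ.q x = Φ.q w} := by
  obtain ⟨y, hy, -⟩ := sep h (k := 0) ![] (e := e) (by
    intro h0
    apply he0
    rw [Matrix.range_empty, Submodule.span_empty, Submodule.mem_bot] at h0
    exact h0)
  have h1 := half (lf Φ e) (y := y) (by rw [lf_apply, hy]; exact one_ne_zero)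
  have h2 := dc_ge (F := F) e {x : V | Φ.B x e ≠ 0} {x : V | Φ.B x x = Φ.B w w ∧ Φ.q x = Φ.q w}
    (fun x hx t => by
      show Φ.B (x + t • e) e ≠ 0
      rw [Φ.add_left, Φ.smul_left, he, mul_zero, add_zero]
      exact hx) N (fun x hx => line_ge h he he' w x hx)
  calc Nat.card V ≤ 2 * Nat.card {x : V // Φ.B x e ≠ 0} := h1
    _ ≤ 2 * (N * Nat.card {x : V // Φ.B x e ≠ 0 ∧ Φ.B x x = Φ.B w w ∧ Φ.q x = Φ.q w}) := Nat.mul_le_mul_left _ h2
    _ = _ := by ring

/-- many vectors `x` of a given norm with `B x p` given, not orthogonal to `e ∈ p^⊥` -/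
theorem many2 [Finite F] [Finite V] {Φ : Frm F V} {G : Subgroup (V ≃ₗ[F] V)} {N : ℕ} (h : Kl Φ G N) {p e : V}
    (hp : p ≠ 0) (hep : e ∉ Submodule.span F {p}) (hpe : Φ.B e p = 0) (he : Φ.B e e = 0) (he' : Φ.q e = 0) (v : V)
    (b : F) : Nat.card V ≤ 2 * N * Nat.card F *
      Nat.card {x : V // (Φ.B x p = b ∧ Φ.B x e ≠ 0) ∧ Φ.B x x = Φ.B v v ∧ Φ.q x = Φ.q v} := by
  have hr : Set.range ![p] = {p} := by simp
  obtain ⟨y, hy, hyp⟩ := sep h (k := 1) ![p] (e := e) (by rw [hr]; exact hep)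
  obtain ⟨x, hx, -⟩ := sep h (k := 0) ![] (e := p) (by
    intro h0
    apply hp
    rw [Matrix.range_empty, Submodule.span_empty, Submodule.mem_bot] at h0
    exact h0)
  have h1 := half2 (lf Φ p) (lf Φ e) (x := x) (y := y) (by rw [lf_apply, hx]; exact one_ne_zero) hy (hyp 0) b
  have h2 := dc_ge (F := F) e {x : V | Φ.B x p = b ∧ Φ.B x e ≠ 0} {x : V | Φ.B x x = Φ.B v v ∧ Φ.q x = Φ.q v}
    (fun x hx t => by
      refine ⟨?_, ?_⟩
      · show Φ.B (x + t • e) p = b
        rw [Φ.add_left, Φ.smul_left, hpe, mul_zero, add_zero]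
        exact hx.1
      · show Φ.B (x + t • e) e ≠ 0
        rw [Φ.add_left, Φ.smul_left, he, mul_zero, add_zero]
        exact hx.2) N (fun x hx => line_ge h he he' v x hx.2)
  calc Nat.card V ≤ 2 * Nat.card F * Nat.card {x : V // Φ.B x p = b ∧ Φ.B x e ≠ 0} := h1
    _ ≤ 2 * Nat.card F * (N * Nat.card {x : V // (Φ.B x p = b ∧ Φ.B x e ≠ 0) ∧
        Φ.B x x = Φ.B v v ∧ Φ.q x = Φ.q v}) := Nat.mul_le_mul_left _ h2
    _ = _ := by ring

/-- **(N4), one vector** -/
theorem n4' [Finite F] [Finite V] {Φ : Frm F V} {G : Subgroup (V ≃ₗ[F] V)} {N : ℕ} (h : Kl Φ G N)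
    (hn : 5 ≤ finrank F V) {w : V} (hw : w ≠ 0) :
    Nat.card V ≤ 2 * N * Nat.card {p : V // ∃ g ∈ G, p = g w} := by
  obtain ⟨e, he0, he, he', -⟩ := exists_iso h (k := 0) (by omega) ![]
  have he0' : e ≠ 0 := fun h0 => he0 (by rw [h0]; exact zero_mem _)
  refine (many1 h he0' he he' w).trans (Nat.mul_le_mul_left _ ?_)
  refine Nat.card_mono (Set.toFinite _) ?_
  rintro x ⟨hxe, hx, hx'⟩
  have hx0 : x ≠ 0 := by
    rintro rfl
    exact hxe (Cfsg.Agent.H42.Bs.B_zero_left e)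
  obtain ⟨g, hg, hgx⟩ := witt h (k := 1) (by omega) hn (u := ![w]) (u' := ![x])
    (LinearIndependent.of_subsingleton (v := ![w]) 0 hw) (LinearIndependent.of_subsingleton (v := ![x]) 0 hx0)
    (by intro i j; fin_cases i; fin_cases j; exact hx.symm) (by intro i; fin_cases i; exact hx'.symm)
  exact ⟨g, hg, (hgx 0).symm⟩

/-- **(N4)** orbits of pairs -/
theorem n4_nat [Finite F] [Finite V] {Φ : Frm F V} {G : Subgroup (V ≃ₗ[F] V)} {N : ℕ} (h : Kl Φ G N)
    (hn : 7 ≤ finrank F V) {w v : V} (hw : w ≠ 0) (hv : v ∉ Submodule.span F {w}) :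
    Nat.card V ^ 2 ≤ 4 * N ^ 2 * Nat.card F * Nat.card {p : V × V // ∃ g ∈ G, p = (g w, g v)} := by
  classical
  obtain ⟨e, he0, he, he', -⟩ := exists_iso h (k := 0) (by omega) ![]
  have he0' : e ≠ 0 := fun h0 => he0 (by rw [h0]; exact zero_mem _)
  let A : Type _ := {x : V // Φ.B x e ≠ 0 ∧ Φ.B x x = Φ.B w w ∧ Φ.q x = Φ.q w}
  have hA0 : ∀ x : A, x.1 ≠ 0 := by
    rintro ⟨x, hxe, hx2⟩ h0
    have h0' : x = 0 := h0
    exact hxe (by rw [h0']; exact Cfsg.Agent.H42.Bs.B_zero_left e)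
  have hex : ∀ x : A, ∃ e', e' ∉ Submodule.span F {x.1} ∧ Φ.B e' e' = 0 ∧ Φ.q e' = 0 ∧ Φ.B e' x.1 = 0 := by
    intro x
    obtain ⟨e', h1, h2, h3, h4⟩ := exists_iso h (k := 1) (by omega) ![x.1]
    have hr : Set.range ![x.1] = {x.1} := by simp
    rw [hr] at h1
    exact ⟨e', h1, h2, h3, h4 0⟩
  choose E' hE1 hE2 hE3 hE4 using hex
  let C : A → Type _ := fun p => {x : V // (Φ.B x p.1 = Φ.B v w ∧ Φ.B x (E' p) ≠ 0) ∧ Φ.B x x = Φ.B v v ∧ Φ.q x = Φ.q v}
  have hC : ∀ p : A, Nat.card V ≤ 2 * N * Nat.card F * Nat.card (C p) := fun p =>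
    many2 h (hA0 p) (hE1 p) (hE4 p) (hE2 p) (hE3 p) v (Φ.B v w)
  have hA : Nat.card V ≤ 2 * N * Nat.card A := many1 h he0' he he' w
  have hwv : LinearIndependent F ![w, v] := by
    rw [LinearIndependent.pair_iff' hw]
    intro a ha
    exact hv (Submodule.mem_span_singleton.2 ⟨a, ha⟩)
  have hinj : Nat.card (Σ p : A, C p) ≤ Nat.card {p : V × V // ∃ g ∈ G, p = (g w, g v)} := by
    refine Nat.card_le_card_of_injective (fun s => ⟨(s.1.1, s.2.1), ?_⟩) ?_
    · obtain ⟨⟨p, hpe, hp, hp'⟩, ⟨x, ⟨hx1, hx2⟩, hx3, hx4⟩⟩ := s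
      have hli : LinearIndependent F ![p, x] := by
        rw [LinearIndependent.pair_iff' (hA0 ⟨p, hpe, hp, hp'⟩)]
        intro a ha
        apply hx2
        rw [← ha, Φ.smul_left, Φ.refl _ _ (hE4 ⟨p, hpe, hp, hp'⟩), mul_zero]
      obtain ⟨g, hg, h1, h2⟩ := n3 h hn hwv hli hp.symm (h.swap hx1.symm) hx1.symm hx3.symm hp'.symm hx4.symm
      exact ⟨g, hg, Prod.ext h1.symm h2.symm⟩
    · rintro ⟨p, x⟩ ⟨p', x'⟩ hs
      have h1 := congrArg Subtype.val hs
      have h2 : p = p' := Subtype.ext (congrArg Prod.fst h1)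
      subst h2
      have h3 : x = x' := Subtype.ext (congrArg Prod.snd h1)
      rw [h3]
  have := Fintype.ofFinite A
  rw [Nat.card_sigma] at hinj
  have h1 : Nat.card A * Nat.card V ≤ 2 * N * Nat.card F * ∑ p : A, Nat.card (C p) := by
    rw [Finset.mul_sum]
    refine le_trans (le_of_eq ?_) (Finset.sum_le_sum fun p _ => hC p)
    rw [Finset.sum_const, Finset.card_univ, Nat.card_eq_fintype_card (α := A), smul_eq_mul]
  calc Nat.card V ^ 2 = Nat.card V * Nat.card V := pow_two _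
    _ ≤ (2 * N * Nat.card A) * Nat.card V := Nat.mul_le_mul_right _ hA
    _ = 2 * N * (Nat.card A * Nat.card V) := by ring
    _ ≤ 2 * N * (2 * N * Nat.card F * ∑ p : A, Nat.card (C p)) := Nat.mul_le_mul_left _ h1
    _ = 4 * N ^ 2 * Nat.card F * ∑ p : A, Nat.card (C p) := by ring
    _ ≤ _ := Nat.mul_le_mul_left _ hinj

/-- **(N4)** orbits of pairs, real form -/
theorem n4 [Finite F] [Finite V] {Φ : Frm F V} {G : Subgroup (V ≃ₗ[F] V)} {N : ℕ} (h : Kl Φ G N)
    (hn : 7 ≤ finrank F V) {w v : V} (hw : w ≠ 0) (hv : v ∉ Submodule.span F {w}) :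
    (Nat.card V : ℝ) ^ 2 ≤ 4 * (N : ℝ) ^ 2 * Nat.card F * Nat.card {p : V × V // ∃ g ∈ G, p = (g w, g v)} := by
  exact_mod_cast n4_nat h hn hw hv

end Cfsg.Agent.H847.Ux
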