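import Mathlib

/-!
# S5716, unbounded rank, step (G): growth of a symplectic subgroup (helper847)

`P` = a set of vectors (centres of transvection groups contained in `H`) closed under scalars and under
`w, v ↦ w + v` for `B w v ≠ 0`.  `W` a nondegenerate subspace contained in `P`, of maximal dimension.  If `P` spans
`V` then `W = V` or `P ⊆ W ∪ W^⊥`.
-/

set_option autoImplicit false

namespace Cfsg.Agent.H847.Ux

open Module

section sp

variable {F V : Type*} [Field F] [AddCommGroup V] [Module F V] {B : LinearMap.BilinForm F V}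

/-- `W` is nondegenerate for `B` -/
def NDeg (B : LinearMap.BilinForm F V) (W : Submodule F V) : Prop := ∀ v ∈ W, (∀ w ∈ W, B v w = 0) → v = 0

/-- closed sets of centres (symplectic case) -/
structure SpSet (B : LinearMap.BilinForm F V) (P : Set V) : Prop where
  smul : ∀ (c : F), ∀ v ∈ P, c • v ∈ P
  add : ∀ v ∈ P, ∀ w ∈ P, B v w ≠ 0 → v + w ∈ P

theorem SpSet.comb {P : Set V} (h : SpSet B P) {v w : V} (hv : v ∈ P) (hw : w ∈ P) (hvw : B v w ≠ 0) (a b : F) :
    a • v + b • w ∈ P := by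
  by_cases ha : a = 0
  · rw [ha, zero_smul, zero_add]; exact h.smul b w hw
  by_cases hb : b = 0
  · rw [hb, zero_smul, add_zero]; exact h.smul a v hv
  refine h.add _ (h.smul a v hv) _ (h.smul b w hw) ?_
  simp only [map_smul, LinearMap.smul_apply, smul_eq_mul, ne_eq, mul_eq_zero, not_or]
  exact ⟨hb, ha, hvw⟩

/-- two nonzero vectors of a nondegenerate subspace have a common nonorthogonal vector -/
theorem exists_common (hB : B.IsAlt) {W : Submodule F V} (hW : NDeg B W) {u v : V} (hu : u ∈ W) (hv : v ∈ W)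
    (hu0 : u ≠ 0) (hv0 : v ≠ 0) : ∃ w ∈ W, B u w ≠ 0 ∧ B w v ≠ 0 := by
  have hex : ∀ x ∈ W, x ≠ 0 → ∃ w ∈ W, B x w ≠ 0 := by
    intro x hx hx0
    by_contra hcon
    push Not at hcon
    exact hx0 (hW x hx hcon)
  obtain ⟨a, ha, hua⟩ := hex u hu hu0
  obtain ⟨b, hb, hvb⟩ := hex v hv hv0
  have hsym : ∀ x y, B x y = 0 ↔ B y x = 0 := fun x y => by
    rw [← hB.neg_eq y x, neg_eq_zero]
  by_cases h1 : B v a = 0
  · by_cases h2 : B u b = 0
    · refine ⟨a + b, W.add_mem ha hb, ?_, ?_⟩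
      · rw [map_add, h2, add_zero]; exact hua
      · rw [ne_eq, hsym, map_add, h1, zero_add]; exact hvb
    · exact ⟨b, hb, h2, fun h => hvb ((hsym _ _).1 h)⟩
  · exact ⟨a, ha, hua, fun h => h1 ((hsym _ _).1 h)⟩

/-- moving the `W`-component -/
theorem SpSet.move (hB : B.IsAlt) {P : Set V} (h : SpSet B P) {W : Submodule F V} (hW : NDeg B W) (hWP : (W : Set V) ⊆ P)
    {w0 u0 : V} (hw0 : w0 ∈ W) (hw : w0 ≠ 0) (hu0 : ∀ w ∈ W, B w u0 = 0) (hp : w0 + u0 ∈ P) {w : V} (hw1 : w ∈ W)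
    (hw1' : w ≠ 0) : w + u0 ∈ P := by
  have hsym : ∀ x y, B x y = 0 ↔ B y x = 0 := fun x y => by
    rw [← hB.neg_eq y x, neg_eq_zero]
  obtain ⟨t, ht, h1, h2⟩ := exists_common hB hW hw0 hw1 hw hw1'
  have hu0' : ∀ w ∈ W, B u0 w = 0 := fun w hw => (hsym _ _).2 (hu0 w hw)
  have ht1 : t + u0 ∈ P := by
    have := h.add _ hp _ (hWP (W.sub_mem ht hw0)) (by
      rw [map_add, LinearMap.add_apply, hu0' _ (W.sub_mem ht hw0), add_zero, map_sub, hB w0, sub_zero]
      exact h1)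
    have he : w0 + u0 + (t - w0) = t + u0 := by abel
    rwa [he] at this
  have := h.add _ ht1 _ (hWP (W.sub_mem hw1 ht)) (by
    rw [map_add, LinearMap.add_apply, hu0' _ (W.sub_mem hw1 ht), add_zero, map_sub, hB t, sub_zero]
    exact h2)
  have he : t + u0 + (w - t) = w + u0 := by abel
  rwa [he] at this

/-- two vectors `w₀ + u₀`, `w₁ + u₁` of `P` with `B u₀ u₁ ≠ 0` fill `W + ⟨u₀, u₁⟩` -/
theorem SpSet.fill (hB : B.IsAlt) {c0 : F} (hc0 : c0 ≠ 0) (hc1 : c0 ≠ 1) {P : Set V} (h : SpSet B P) {W : Submodule F V}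
    (hW : NDeg B W) (hWP : (W : Set V) ⊆ P) {u0 u1 : V} (hu0 : ∀ w ∈ W, B w u0 = 0) (hu1 : ∀ w ∈ W, B w u1 = 0)
    (hu : B u0 u1 ≠ 0) {e : V} (he : e ∈ W) (he0 : e ≠ 0) (hp0 : ∀ w ∈ W, w ≠ 0 → w + u0 ∈ P)
    (hp1 : ∀ w ∈ W, w ≠ 0 → w + u1 ∈ P) :
    ∀ w ∈ W, ∀ a b : F, w + (a • u0 + b • u1) ∈ P := by
  have hsym : ∀ x y, B x y = 0 ↔ B y x = 0 := fun x y => by
    rw [← hB.neg_eq y x, neg_eq_zero]
  have hu0' : ∀ w ∈ W, B u0 w = 0 := fun w hw => (hsym _ _).2 (hu0 w hw)
  -- the case `a, b ≠ 0`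
  have key : ∀ w ∈ W, ∀ a b : F, a ≠ 0 → b ≠ 0 → w + (a • u0 + b • u1) ∈ P := by
    intro w hw a b ha hb
    have main : ∀ s ∈ W, s ≠ 0 → w - a • s ≠ 0 → B s w = 0 → w + (a • u0 + b • u1) ∈ P := by
      intro s hs hs0 hws hsw
      have h1 : s + u0 ∈ P := hp0 s hs hs0
      have hwW : b⁻¹ • (w - a • s) ∈ W := W.smul_mem _ (W.sub_mem hw (W.smul_mem _ hs))
      have h2 : b⁻¹ • (w - a • s) + u1 ∈ P := hp1 _ hwW (smul_ne_zero (inv_ne_zero hb) hws)
      have h3 := h.comb h1 h2 (by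
        have e1 : B s (b⁻¹ • (w - a • s)) = 0 := by
          rw [map_smul, map_sub, hsw, map_smul, hB s]
          simp
        have e2 : B (s + u0) (b⁻¹ • (w - a • s) + u1) = B u0 u1 := by
          rw [LinearMap.map_add₂, map_add, map_add, e1, hu1 s hs, hu0' _ hwW]
          simp
        rw [e2]
        exact hu) a b
      have he : a • (s + u0) + b • (b⁻¹ • (w - a • s) + u1) = w + (a • u0 + b • u1) := by
        rw [smul_add, smul_add, smul_smul, mul_inv_cancel₀ hb, one_smul]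
        abel
      rwa [he] at h3
    by_cases hw0 : w = 0
    · refine main e he he0 ?_ (by rw [hw0, map_zero])
      rw [hw0, zero_sub, neg_ne_zero]
      exact smul_ne_zero ha he0
    · refine main ((a⁻¹ * c0) • w) (W.smul_mem _ hw) (smul_ne_zero (mul_ne_zero (inv_ne_zero ha) hc0) hw0) ?_
        (by rw [map_smul, LinearMap.smul_apply, hB w, smul_zero])
      rw [smul_smul, ← mul_assoc, mul_inv_cancel₀ ha, one_mul]
      intro hh
      have : (1 - c0) • w = 0 := by rw [sub_smul, one_smul]; exact hh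
      rcases smul_eq_zero.1 this with h' | h'
      · exact hc1 (sub_eq_zero.1 h').symm
      · exact hw0 h'
  -- `u₀` and `u₁`
  have h11 : u0 + u1 ∈ P := by
    have := key 0 W.zero_mem 1 1 one_ne_zero one_ne_zero
    simpa using this
  have h1c : u0 + c0 • u1 ∈ P := by
    have := key 0 W.zero_mem 1 c0 one_ne_zero hc0
    simpa using this
  have hne : B (u0 + u1) (u0 + c0 • u1) ≠ 0 := by
    have h10 : B u1 u0 = - B u0 u1 := (hB.neg_eq u0 u1).symm
    have : B (u0 + u1) (u0 + c0 • u1) = (c0 - 1) * B u0 u1 := by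
      simp only [map_add, LinearMap.add_apply, map_smul, smul_eq_mul, hB u0, hB u1, h10]
      ring
    rw [this]
    exact mul_ne_zero (sub_ne_zero.2 hc1) hu
  have hcomb : ∀ a b : F, a • u0 + b • u1 ∈ P := by
    intro a b
    have hd : (1 - c0) ≠ 0 := sub_ne_zero.2 (Ne.symm hc1)
    have := h.comb h11 h1c hne ((b - c0 * a) / (1 - c0)) ((a - b) / (1 - c0))
    have he : ((b - c0 * a) / (1 - c0)) • (u0 + u1) + ((a - b) / (1 - c0)) • (u0 + c0 • u1) = a • u0 + b • u1 := by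
      rw [smul_add, smul_add, smul_smul]
      have e1 : ((b - c0 * a) / (1 - c0)) • u0 + ((b - c0 * a) / (1 - c0)) • u1 +
          (((a - b) / (1 - c0)) • u0 + ((a - b) / (1 - c0) * c0) • u1) =
          ((b - c0 * a) / (1 - c0) + (a - b) / (1 - c0)) • u0 + ((b - c0 * a) / (1 - c0) + (a - b) / (1 - c0) * c0) • u1 := by
        rw [add_smul, add_smul]; abel
      rw [e1]
      congr 2
      · field_simp; ring
      · field_simp; ring
    rwa [he] at this
  intro w hw a b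
  by_cases hw0 : w = 0
  · rw [hw0, zero_add]; exact hcomb a b
  by_cases ha : a = 0
  · by_cases hb : b = 0
    · rw [ha, hb, zero_smul, zero_smul, add_zero, add_zero]; exact hWP hw
    · rw [ha, zero_smul, zero_add]
      have := h.smul b _ (hp1 (b⁻¹ • w) (W.smul_mem _ hw) (smul_ne_zero (inv_ne_zero hb) hw0))
      rwa [smul_add, smul_smul, mul_inv_cancel₀ hb, one_smul] at this
  · by_cases hb : b = 0
    · rw [hb, zero_smul, add_zero]
      have := h.smul a _ (hp0 (a⁻¹ • w) (W.smul_mem _ hw) (smul_ne_zero (inv_ne_zero ha) hw0))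
      rwa [smul_add, smul_smul, mul_inv_cancel₀ ha, one_smul] at this
    · exact key w hw a b ha hb

end sp

end Cfsg.Agent.H847.Ux
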